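import Groth.Agent.H10Coh.LimStab.Field
import Mathlib.LinearAlgebra.Dimension.Free
import Mathlib.RingTheory.Ideal.Quotient.Defs
import Mathlib.LinearAlgebra.Quotient.Basic
import Mathlib.Logic.Denumerable
import Mathlib.Data.Finsupp.Encodable

/-!
# A sequence in a countably generated module which is nowhere locally convergent to a fraction
-/

set_option autoImplicit false

noncomputable section

universe u

open Cardinal Submodule

namespace Groth.Agent.H10Coh.LimStab

variable {k : Type u} [Field k]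

/-- The vectors with coordinates in a subfield. -/
def Coord {ι V : Type u} [AddCommGroup V] [Module k V] (b : Module.Basis ι k V) (F : Subfield k) : Set V :=
  {v | ∀ i, b.repr v i ∈ F}

section Coord

variable {ι V : Type u} [AddCommGroup V] [Module k V] {b : Module.Basis ι k V} {F F' : Subfield k}

theorem Coord.mono (h : F ≤ F') : Coord b F ⊆ Coord b F' := fun _ hv i => h (hv i)

theorem Coord.smul {a : k} (ha : a ∈ F) {v : V} (hv : v ∈ Coord b F) : a • v ∈ Coord b F := fun i => by
  rw [map_smul, Finsupp.smul_apply, smul_eq_mul]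
  exact mul_mem ha (hv i)

theorem Coord.zero : (0 : V) ∈ Coord b F := fun i => by simp

theorem Coord.add {v w : V} (hv : v ∈ Coord b F) (hw : w ∈ Coord b F) : v + w ∈ Coord b F := fun i => by
  rw [map_add, Finsupp.add_apply]
  exact add_mem (hv i) (hw i)

theorem Coord.sub {v w : V} (hv : v ∈ Coord b F) (hw : w ∈ Coord b F) : v - w ∈ Coord b F := fun i => by
  rw [map_sub, Finsupp.sub_apply]
  exact sub_mem (hv i) (hw i)

theorem Coord.sum {α : Type*} (s : Finset α) {f : α → V} (hf : ∀ a ∈ s, f a ∈ Coord b F) :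
    ∑ a ∈ s, f a ∈ Coord b F := by
  classical
  induction s using Finset.induction_on with
  | empty => simpa using Coord.zero
  | insert a s ha ih =>
    rw [Finset.sum_insert ha]
    exact Coord.add (hf a (Finset.mem_insert_self a s)) (ih fun x hx => hf x (Finset.mem_insert_of_mem hx))

theorem Coord.map {κ W : Type u} [AddCommGroup W] [Module k W] {c : Module.Basis κ k W} (φ : V →ₗ[k] W)
    (h : ∀ i, φ (b i) ∈ Coord c F) {v : V} (hv : v ∈ Coord b F) : φ v ∈ Coord c F := by
  rw [← b.linearCombination_repr v, Finsupp.linearCombination_apply, map_finsuppSum]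
  refine Coord.sum _ fun i _ => ?_
  simp only [map_smul]
  exact Coord.smul (hv i) (h i)

theorem Coord.bilin {κ W μ U : Type u} [AddCommGroup W] [Module k W] [AddCommGroup U] [Module k U]
    {c : Module.Basis κ k W} {d : Module.Basis μ k U} (φ : V →ₗ[k] W →ₗ[k] U)
    (h : ∀ i j, φ (b i) (c j) ∈ Coord d F) {v : V} (hv : v ∈ Coord b F) {w : W} (hw : w ∈ Coord c F) :
    φ v w ∈ Coord d F := by
  refine Coord.map (φ.flip w) (fun i => ?_) hv
  exact Coord.map (φ (b i)) (fun j => h i j) hw

theorem countable_basis (b : Module.Basis ι k V) {s : Set V} (hs : s.Countable) (hspan : span k s = ⊤) :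
    Countable ι := by
  have h : Module.rank k V ≤ ℵ₀ := by
    rw [← rank_top, ← hspan]
    exact (rank_span_le s).trans (le_aleph0_iff_set_countable.2 hs)
  rw [← b.mk_eq_rank''] at h
  exact mk_le_aleph0_iff.1 h

end Coord

variable {R G : Type u} [CommRing R] [Algebra k R] [AddCommGroup G] [Module R G] [Module k G]
  [IsScalarTower k R G]

/-- The indices at which no power of `f` kills the chosen element. -/
def Spots (H : ℕ → Submodule R G) (c : ℕ → G) (f : R) : Set ℕ := {n | ∀ M : ℕ, f ^ M • c n ∉ H (n + 1)}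

/-- The partial sums. -/
def psum (c : ℕ → G) (l : ℕ → k) (n : ℕ) : G := ∑ i ∈ Finset.range n, l i • c i

omit [IsScalarTower k R G] in
theorem psum_succ (c : ℕ → G) (l : ℕ → k) (n : ℕ) : psum c l (n + 1) = psum c l n + l n • c n :=
  Finset.sum_range_succ _ _

theorem mem_subfield (sR : Set R) (hsR : sR.Countable) (hR : span k sR = ⊤) (sG : Set G)
    (hsG : sG.Countable) (hG : span k sG = ⊤) (H : ℕ → Submodule R G) (c : ℕ → G) :
    ∃ (k₀ : Subfield k), Countable k₀ ∧ ∀ (f : R) (g : G), ∃ T : Finset k, ∀ (l : ℕ → k) (n M m : ℕ),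
      n ∈ Spots H c f → f ^ M • (f ^ m • psum c l (n + 1) - g) ∈ H (n + 1) →
      l n ∈ Subfield.closure ((k₀ : Set k) ∪ (T : Set k) ∪ l '' Set.Iio n) := by
  classical
  let e := Module.Basis.ofVectorSpace k R
  let w := Module.Basis.ofVectorSpace k G
  let b := fun n => Module.Basis.ofVectorSpace k (G ⧸ H n)
  haveI := countable_basis e hsR hR
  haveI := countable_basis w hsG hG
  haveI : ∀ n, Countable (Module.Basis.ofVectorSpaceIndex k (G ⧸ H n)) := fun n => by
    refine countable_basis (b n) (hsG.image ((H n).mkQ.restrictScalars k)) ?_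
    rw [span_image, hG, Submodule.map_top, LinearMap.range_eq_top]
    exact (H n).mkQ_surjective
  let C : Set k := (⋃ i, ⋃ j, Set.range fun t => w.repr (e i • w j) t) ∪
    (⋃ n, ⋃ j, Set.range fun t => (b n).repr ((H n).mkQ (w j)) t) ∪
    ⋃ n, Set.range fun t => w.repr (c n) t
  have hC : C.Countable :=
    ((Set.countable_iUnion fun _ => Set.countable_iUnion fun _ => Set.countable_range _).union
      (Set.countable_iUnion fun _ => Set.countable_iUnion fun _ => Set.countable_range _)).union
      (Set.countable_iUnion fun _ => Set.countable_range _)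
  refine ⟨Subfield.closure C, ?_, fun f g => ?_⟩
  · rw [← mk_le_aleph0_iff]
    exact (Subfield.cardinalMk_closure_le_max C).trans (max_le (le_aleph0_iff_set_countable.2 hC) le_rfl)
  refine ⟨(e.repr f).support.image (e.repr f) ∪ (w.repr g).support.image (w.repr g), fun l n M m hn h => ?_⟩
  let F := Subfield.closure ((Subfield.closure C : Set k) ∪
    (((e.repr f).support.image (e.repr f) ∪ (w.repr g).support.image (w.repr g) : Finset k) : Set k) ∪
      l '' Set.Iio n)
  have hC' : ∀ {a}, a ∈ C → a ∈ F := fun {a} ha =>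
    Subfield.subset_closure (Or.inl (Or.inl (Subfield.subset_closure ha)))
  have hl : ∀ i, i < n → l i ∈ F := fun i hi => Subfield.subset_closure (Or.inr ⟨i, hi, rfl⟩)
  have hf : f ∈ Coord e F := fun i => by
    by_cases hi : i ∈ (e.repr f).support
    · exact Subfield.subset_closure (Or.inl (Or.inr (Finset.mem_coe.2 (Finset.mem_union_left _
        (Finset.mem_image_of_mem _ hi)))))
    · rw [Finsupp.notMem_support_iff.1 hi]; exact zero_mem _
  have hg : g ∈ Coord w F := fun i => by
    by_cases hi : i ∈ (w.repr g).support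
    · exact Subfield.subset_closure (Or.inl (Or.inr (Finset.mem_coe.2 (Finset.mem_union_right _
        (Finset.mem_image_of_mem _ hi)))))
    · rw [Finsupp.notMem_support_iff.1 hi]; exact zero_mem _
  let act : R →ₗ[k] G →ₗ[k] G := LinearMap.mk₂ k (fun r x => r • x) (fun a a' x => add_smul a a' x)
    (fun a r x => smul_assoc a r x) (fun r x y => smul_add r x y) (fun a r x => (smul_comm a r x).symm)
  have hact : ∀ x ∈ Coord w F, f • x ∈ Coord w F := fun x hx =>
    Coord.bilin act (fun i j t => hC' (Or.inl (Or.inl (Set.mem_iUnion.2 ⟨i, Set.mem_iUnion.2 ⟨j, ⟨t, rfl⟩⟩⟩)))) hf hx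
  have hpow : ∀ N, ∀ x ∈ Coord w F, f ^ N • x ∈ Coord w F := fun N => by
    induction N with
    | zero => simp
    | succ N ih =>
      intro x hx
      rw [pow_succ, mul_smul]
      exact ih _ (hact x hx)
  have hc : ∀ i, c i ∈ Coord w F := fun i t => hC' (Or.inr (Set.mem_iUnion.2 ⟨i, ⟨t, rfl⟩⟩))
  let q := (H (n + 1)).mkQ.restrictScalars k
  have hq : ∀ x ∈ Coord w F, q x ∈ Coord (b (n + 1)) F := fun x hx =>
    Coord.map q (fun j t => hC' (Or.inl (Or.inr (Set.mem_iUnion.2 ⟨n + 1, Set.mem_iUnion.2 ⟨j, ⟨t, rfl⟩⟩⟩)))) hx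
  have hs : psum c l n ∈ Coord w F := Coord.sum _ fun i hi => Coord.smul (hl i (Finset.mem_range.1 hi)) (hc i)
  -- the equation
  have he : l n • q (f ^ (M + m) • c n) = q (f ^ M • g - f ^ (M + m) • psum c l n) := by
    rw [← map_smul, ← sub_eq_zero, ← map_sub]
    show Submodule.Quotient.mk _ = 0
    rw [Submodule.Quotient.mk_eq_zero]
    have e1 : f ^ M • (f ^ m • psum c l (n + 1) - g) =
        l n • f ^ (M + m) • c n - (f ^ M • g - f ^ (M + m) • psum c l n) := by
      rw [psum_succ, smul_sub, smul_add, smul_add, ← mul_smul, ← mul_smul, ← pow_add,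
        smul_comm (f ^ (M + m)) (l n)]
      abel
    rwa [e1] at h
  have hA := hq _ (hpow (M + m) _ (hc n))
  have hB := hq _ (Coord.sub (hpow M _ hg) (hpow (M + m) _ hs))
  obtain ⟨t, ht⟩ : ∃ t, (b (n + 1)).repr (q (f ^ (M + m) • c n)) t ≠ 0 := by
    by_contra! hz
    refine hn (M + m) ((Submodule.Quotient.mk_eq_zero _).1 ((b (n + 1)).repr.injective ?_))
    rw [map_zero]
    exact Finsupp.ext hz
  have hval : l n = (b (n + 1)).repr (q (f ^ M • g - f ^ (M + m) • psum c l n)) t /
      (b (n + 1)).repr (q (f ^ (M + m) • c n)) t := by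
    rw [eq_div_iff ht, ← he, (b (n + 1)).repr.map_smul, Finsupp.smul_apply, smul_eq_mul]
  show l n ∈ F
  rw [hval]
  exact div_mem (hB t) (hA t)

/-- A sequence of partial sums which no `g / f ^ m` matches at all the spots of `f`. -/
theorem exists_bad (sR : Set R) (hsR : sR.Countable) (hR : span k sR = ⊤) (sG : Set G)
    (hsG : sG.Countable) (hG : span k sG = ⊤) (H : ℕ → Submodule R G) (c : ℕ → G) :
    ∃ l : ℕ → k, ∀ (f : R) (g : G) (m : ℕ), (Spots H c f).Infinite →
      ∃ n, ∀ M, f ^ M • (f ^ m • psum c l (n + 1) - g) ∉ H (n + 1) := by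
  classical
  by_cases hk : Countable k
  · -- diagonal choice
    haveI : Countable R := by
      let e := Module.Basis.ofVectorSpace k R
      haveI := countable_basis e hsR hR
      exact e.repr.injective.countable
    haveI : Countable G := by
      let e := Module.Basis.ofVectorSpace k G
      haveI := countable_basis e hsG hG
      exact e.repr.injective.countable
    let P := {p : R × G × ℕ // (Spots H c p.1).Infinite}
    rcases isEmpty_or_nonempty P with hP | hP
    · exact ⟨0, fun f g m hinf => (hP.false ⟨(f, g, m), hinf⟩).elim⟩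
    obtain ⟨enum, henum⟩ := exists_surjective_nat P
    -- distinct spots for the pairs
    have hstep : ∀ (i N : ℕ), ∃ n, N < n ∧ n ∈ Spots H c (enum i).1.1 := fun i N => by
      obtain ⟨n, hn, hN⟩ := (enum i).2.exists_gt N
      exact ⟨n, hN, hn⟩
    choose nx hnx hnxmem using hstep
    let sp : ℕ → ℕ := fun i => Nat.rec (nx 0 0) (fun j r => nx (j + 1) r) i
    have hsp : StrictMono sp := strictMono_nat_of_lt_succ fun i => hnx (i + 1) _
    have hspmem : ∀ i, sp i ∈ Spots H c (enum i).1.1 := fun i => by cases i <;> exact hnxmem _ _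
    -- the digit at a spot
    let bad : R × G × ℕ → G → ℕ → k → Prop := fun p s n a =>
      ∀ M, p.1 ^ M • (p.1 ^ p.2.2 • (s + a • c n) - p.2.1) ∉ H (n + 1)
    have hbad : ∀ p s n, n ∈ Spots H c p.1 → ∃ a, bad p s n a := fun p s n hn => by
      by_contra! hc
      obtain ⟨M₀, h₀⟩ : ∃ M, _ := not_forall_not.1 (hc 0)
      obtain ⟨M₁, h₁⟩ : ∃ M, _ := not_forall_not.1 (hc 1)
      refine hn (M₀ + M₁ + p.2.2) ?_
      have h2 := sub_mem ((H (n + 1)).smul_mem (p.1 ^ M₀) h₁) ((H (n + 1)).smul_mem (p.1 ^ M₁) h₀)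
      have e : p.1 ^ (M₀ + M₁ + p.2.2) • c n =
          p.1 ^ M₀ • p.1 ^ M₁ • (p.1 ^ p.2.2 • (s + (1 : k) • c n) - p.2.1) -
            p.1 ^ M₁ • p.1 ^ M₀ • (p.1 ^ p.2.2 • (s + (0 : k) • c n) - p.2.1) := by
        rw [smul_comm (p.1 ^ M₁) (p.1 ^ M₀), ← smul_sub, ← smul_sub, one_smul, zero_smul, add_zero,
          sub_sub_sub_cancel_right, ← smul_sub, add_sub_cancel_left, pow_add, pow_add, mul_smul, mul_smul]
      rwa [e]
    let pick : ℕ → G → k := fun n s =>
      @dite k (∃ i, sp i = n) (Classical.dec _) (fun h =>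
        ((hbad (enum h.choose).1 s n
          (Eq.mp (congrArg (fun a => a ∈ Spots H c (enum h.choose).1.1) h.choose_spec)
            (hspmem h.choose))).choose : k)) (fun _ => (0 : k))
    let S : ℕ → G := fun n => Nat.rec 0 (fun j r => r + pick j r • c j) n
    let l : ℕ → k := fun n => pick n (S n)
    have hS : ∀ n, psum c l n = S n := fun n => by
      induction n with
      | zero => rfl
      | succ n ih => rw [psum_succ, ih]
    refine ⟨l, fun f g m hinf => ?_⟩
    obtain ⟨i, hi⟩ := henum ⟨(f, g, m), hinf⟩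
    refine ⟨sp i, ?_⟩
    have hex : ∃ j, sp j = sp i := ⟨i, rfl⟩
    have hch : hex.choose = i := hsp.injective hex.choose_spec
    have hb : bad (enum hex.choose).1 (S (sp i)) (sp i) (l (sp i)) := by
      simp only [l, pick, dif_pos hex]
      exact (hbad _ _ _ (Eq.mp (congrArg (fun a => a ∈ Spots H c (enum hex.choose).1.1) hex.choose_spec) (hspmem hex.choose))).choose_spec
    rw [hch, hi] at hb
    rw [psum_succ, hS]
    exact hb
  · -- transcendental choice
    haveI : Uncountable k := not_countable_iff.1 hk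
    obtain ⟨k₀, hk₀, hT⟩ := mem_subfield sR hsR hR sG hsG hG H c
    obtain ⟨l, hl⟩ := exists_algebraicIndependent (K := k₀) (L := k)
    refine ⟨l, fun f g m hinf => ?_⟩
    obtain ⟨T, hT⟩ := hT f g
    by_contra! hc
    refine hinf ((finite_setOf_mem_adjoin hl T).subset fun n hn => ?_)
    obtain ⟨M, hM⟩ := hc n
    refine (Subfield.closure_le.2 ?_ : _ ≤ (IntermediateField.adjoin k₀ _).toSubfield) (hT l n M m hn hM)
    rintro a ((ha | ha) | ha)
    · exact IntermediateField.algebraMap_mem _ (⟨a, ha⟩ : k₀)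
    · exact IntermediateField.subset_adjoin _ _ (Or.inl ha)
    · exact IntermediateField.subset_adjoin _ _ (Or.inr ha)

end Groth.Agent.H10Coh.LimStab
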