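import Groth.Agent.H10Coh.LimStab.Sheaf

/-!
# Towers of quotients with countably generated defect
-/

set_option autoImplicit false
set_option linter.style.haveILetI false
set_option backward.isDefEq.respectTransparency.types false

noncomputable section

universe u

open CategoryTheory CategoryTheory.Limits AlgebraicGeometry TopologicalSpace Opposite

namespace Groth.Agent.H10Coh.LimStab

variable {X : Scheme.{u}} (Q : ℕᵒᵖ ⥤ X.Modules) (c : Cone Q) (U : X.Opens)

/-- The projection on sections from the limit. -/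
def projLim (n : ℕ) : Γ(limit Q, U) →ₗ[Γ(X, U)] Γ(Q.obj (op n), U) where
  toFun s := (limit.π Q (op n)).app U s
  map_add' := map_add _
  map_smul' r s := (limit.π Q (op n)).app_smul r s

theorem tr_projLim {a b : ℕ} (h : a ≤ b) (s : Γ(limit Q, U)) :
    (Q.map (homOfLE h).op).app U (projLim Q U b s) = projLim Q U a s :=
  congr(($(limit.w Q (homOfLE h).op)).app U s)

/-- The kernels stabilise if the limit is, up to countably many sections, locally the image of the source. -/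
theorem ker_eventually_const_of_defect (k : Type u) [Field k] [X.Over (Spec (CommRingCat.of k))]
    [LocallyOfFiniteType (X ↘ Spec (CommRingCat.of k))]
    (hQ : ∀ n : ℕ, Coh.IsQCoh (Q.obj (op n))) (hG : Coh.IsQCoh c.pt) (hU : IsAffineOpen U)
    (hGc : ∃ s : Set Γ(c.pt, U), s.Countable ∧ Submodule.span Γ(X, U) s = ⊤)
    (s : Set Γ(limit Q, U)) (hs : s.Countable)
    (hloc : ∀ b : ℕ → Γ(c.pt, U), (∀ i, proj Q c U i (b i) = 0) → ∃ a : Γ(limit Q, U),
      (∀ n, projLim Q U n a = proj Q c U n (∑ i ∈ Finset.range n, b i)) ∧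
      ∃ t ∈ Submodule.span Γ(X, U) s, ∀ x ∈ U, ∃ (V : X.Opens) (hV : V ≤ U), x ∈ V ∧ ∃ g : Γ(c.pt, V),
        (limit.lift Q c).app V g = (limit Q).presheaf.map (homOfLE hV).op (a - t)) :
    ∃ N, ∀ n, N ≤ n → LinearMap.ker (proj Q c U n) ≤ LinearMap.ker (proj Q c U (n + 1)) := by
  classical
  haveI : c.pt.IsQuasicoherent := hG
  let φ : k →+* Γ(X, U) := ((X ↘ Spec (CommRingCat.of k)).appLE ⊤ U (by simp)).hom.comp
    (Scheme.ΓSpecIso (CommRingCat.of k)).inv.hom
  have hφ : φ.FiniteType :=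
    ((X ↘ Spec (CommRingCat.of k)).finiteType_appLE (isAffineOpen_top _) hU _).comp
      (RingHom.FiniteType.of_surjective _ (Scheme.ΓSpecIso (CommRingCat.of k)).commRingCatIsoToRingEquiv.symm.surjective)
  algebraize [φ]
  let T := Submodule.span Γ(X, U) s
  let G' := Γ(c.pt, U) × T
  letI : Module k G' := Module.compHom _ (algebraMap k Γ(X, U))
  haveI : IsScalarTower k Γ(X, U) G' := ⟨fun a r x => by
    rw [Algebra.smul_def, mul_smul]; rfl⟩
  let p : ∀ n, G' →ₗ[Γ(X, U)] Γ(Q.obj (op n), U) := fun n =>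
    (proj Q c U n).coprod ((projLim Q U n).comp T.subtype)
  obtain ⟨sR, hsR, hR⟩ := exists_countable_span k Γ(X, U)
  obtain ⟨sG₀, hsG₀, hsG₀span⟩ := hGc
  have hG' : ∃ w : Set G', w.Countable ∧ Submodule.span Γ(X, U) w = ⊤ := by
    refine ⟨LinearMap.inl Γ(X, U) Γ(c.pt, U) T '' sG₀ ∪ LinearMap.inr Γ(X, U) Γ(c.pt, U) T '' ((↑) ⁻¹' s : Set T),
      (hsG₀.image _).union ((hs.preimage Subtype.val_injective).image _), ?_⟩
    rw [LinearMap.span_inl_union_inr, hsG₀span,
      (Submodule.span_span_coe_preimage : Submodule.span Γ(X, U) ((↑) ⁻¹' s : Set T) = ⊤), Submodule.prod_top]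
  obtain ⟨w, hw, hwspan⟩ := hG'
  obtain ⟨sG, hsG, hGs⟩ := exists_countable_span_of_tower hsR hR hw hwspan
  let H n := LinearMap.ker (proj Q c U n)
  let H' n := LinearMap.ker (p n)
  have hpapp : ∀ n (z : G'), p n z = proj Q c U n z.1 + projLim Q U n z.2.1 := fun n z => rfl
  have hpinl : ∀ n (y : Γ(c.pt, U)), p n (y, 0) = proj Q c U n y := fun n y => by
    rw [hpapp]
    show proj Q c U n y + projLim Q U n 0 = _
    rw [map_zero, add_zero]
  by_contra! hcon
  have hinf : {n | ¬ H n ≤ H (n + 1)}.Infinite :=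
    Set.infinite_of_forall_exists_gt fun N => by
      obtain ⟨n, hn, h⟩ := hcon (N + 1)
      exact ⟨n, h, hn⟩
  have hc : ∀ n, ∃ x ∈ H n, ¬ H n ≤ H (n + 1) → x ∉ H (n + 1) := fun n => by
    by_cases h : H n ≤ H (n + 1)
    · exact ⟨0, zero_mem _, fun h' => absurd h h'⟩
    · obtain ⟨x, hx, hx'⟩ := SetLike.not_le_iff_exists.1 h
      exact ⟨x, hx, fun _ => hx'⟩
  choose c₀ hc₀mem hc₀ using hc
  let cc : ℕ → G' := fun n => (c₀ n, 0)
  obtain ⟨l, hl⟩ := exists_bad sR hsR hR sG hsG hGs H' cc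
  obtain ⟨a, ha, t, ht, hloc⟩ := hloc (fun i => algebraMap k Γ(X, U) (l i) • c₀ i) fun i => by
    rw [map_smul, LinearMap.mem_ker.1 (hc₀mem i), smul_zero]
  have hp : ∀ n, p n (psum cc l n) = projLim Q U n a := fun n => by
    rw [ha, psum, map_sum, map_sum]
    refine Finset.sum_congr rfl fun i _ => ?_
    rw [← algebraMap_smul Γ(X, U) (l i) (cc i), map_smul, map_smul]
    rw [hpinl]
  -- the section comes locally from the source
  have hloc' : ∀ x : U, ∃ f : Γ(X, U), x.1 ∈ X.basicOpen f ∧ ∃ g : Γ(c.pt, X.basicOpen f),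
      (limit.lift Q c).app (X.basicOpen f) g =
        (limit Q).presheaf.map (homOfLE (X.basicOpen_le f)).op (a - t) := by
    intro x
    obtain ⟨V, hV, hxV, g, hg⟩ := hloc x.1 x.2
    obtain ⟨f, hf, hxf⟩ := hU.exists_basicOpen_le ⟨x.1, hxV⟩ x.2
    refine ⟨f, hxf, c.pt.presheaf.map (homOfLE hf).op g, ?_⟩
    rw [H11Tilde.app_map_apply, hg]
    exact mres_mres (limit Q) hV hf _
  choose f hxf g hg using hloc'
  have hcov : Ideal.span (Set.range f) = ⊤ := by
    rw [← hU.self_le_iSup_basicOpen_iff]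
    intro x hx
    exact Opens.mem_iSup.2 ⟨⟨f ⟨x, hx⟩, Set.mem_range_self _⟩, hxf ⟨x, hx⟩⟩
  obtain ⟨S, hS, h1S⟩ := Submodule.mem_span_finite_of_mem_span
    (hcov ▸ Submodule.mem_top : (1 : Γ(X, U)) ∈ Ideal.span (Set.range f))
  have hspan : Ideal.span (S : Set Γ(X, U)) = ⊤ := (Ideal.eq_top_iff_one _).2 h1S
  -- one open meets infinitely many jumps
  have hex : ∀ n ∈ {n | ¬ H n ≤ H (n + 1)}, ∃ r ∈ S, n ∈ Spots H' cc r := by
    intro n hn
    by_contra! hr
    have h' : ∀ r ∈ S, ∃ M : ℕ, r ^ M • c₀ n ∈ H (n + 1) := fun r hrS => by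
      obtain ⟨M, hM⟩ := not_forall_not.1 (hr r hrS)
      refine ⟨M, LinearMap.mem_ker.2 ?_⟩
      have h := LinearMap.mem_ker.1 hM
      rw [map_smul] at h ⊢
      rwa [show cc n = (c₀ n, 0) from rfl, hpinl] at h
    choose! M hM using h'
    have htop := Ideal.span_pow_eq_top (S : Set Γ(X, U)) hspan (S.sup M)
    have h1 : (1 : Γ(X, U)) ∈ (H (n + 1)).comap (LinearMap.toSpanSingleton _ _ (c₀ n)) := by
      have hle : Ideal.span ((fun r => r ^ S.sup M) '' (S : Set Γ(X, U))) ≤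
          (H (n + 1)).comap (LinearMap.toSpanSingleton _ _ (c₀ n)) := by
        rw [Ideal.span_le]
        rintro _ ⟨r, hr', rfl⟩
        show r ^ S.sup M • c₀ n ∈ H (n + 1)
        rw [← Nat.sub_add_cancel (Finset.le_sup (f := M) hr'), pow_add, mul_smul]
        exact (H (n + 1)).smul_mem _ (hM r hr')
      exact hle (htop ▸ Submodule.mem_top)
    refine hc₀ n hn ?_
    simpa using h1
  obtain ⟨r, hrS, hrinf⟩ : ∃ r ∈ S, (Spots H' cc r).Infinite := by
    by_contra! hfin
    refine hinf ((Set.Finite.biUnion S.finite_toSet (fun r hr => hfin r hr)).subset fun n hn => ?_)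
    obtain ⟨r, hr, hnr⟩ := hex n hn
    exact Set.mem_biUnion hr hnr
  obtain ⟨x, rfl⟩ := hS hrS
  obtain ⟨m, g₀, hg₀⟩ := exists_pow_smul_eq_res c.pt hU (f x) (g x)
  obtain ⟨n, hn⟩ := hl (f x) (g₀, f x ^ m • ⟨t, ht⟩) m hrinf
  haveI : (Q.obj (op (n + 1))).IsQuasicoherent := hQ _
  have hz : (Q.obj (op (n + 1))).presheaf.map (homOfLE (X.basicOpen_le (f x))).op
      (p (n + 1) (f x ^ m • psum cc l (n + 1) - (g₀, f x ^ m • ⟨t, ht⟩))) = 0 := by
    have e1 : (Q.obj (op (n + 1))).presheaf.map (homOfLE (X.basicOpen_le (f x))).op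
        (projLim Q U (n + 1) (a - t)) = (c.π.app (op (n + 1))).app (X.basicOpen (f x)) (g x) := by
      show (Q.obj (op (n + 1))).presheaf.map _ ((limit.π Q (op (n + 1))).app U (a - t)) = _
      rw [← H11Tilde.app_map_apply, ← hg x]
      exact congr(($(limit.lift_π c (op (n + 1)))).app (X.basicOpen (f x)) (g x))
    have e2 : p (n + 1) (f x ^ m • psum cc l (n + 1) - (g₀, f x ^ m • ⟨t, ht⟩)) =
        f x ^ m • projLim Q U (n + 1) (a - t) - proj Q c U (n + 1) g₀ := by
      rw [map_sub, map_smul, hp, map_sub (projLim Q U (n + 1)), smul_sub]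
      rw [hpapp]
      show _ - (proj Q c U (n + 1) g₀ + projLim Q U (n + 1) (f x ^ m • t)) = _
      rw [map_smul]
      abel
    rw [e2, map_sub, Scheme.Modules.map_smul, e1, sub_eq_zero]
    show _ = (Q.obj (op (n + 1))).presheaf.map _ ((c.π.app (op (n + 1))).app U g₀)
    rw [← H11Tilde.app_map_apply]
    exact ((congrArg ((c.π.app (op (n + 1))).app (X.basicOpen (f x))) hg₀).trans
      ((c.π.app (op (n + 1))).app_smul _ _)).symm
  obtain ⟨M, hM⟩ := exists_pow_smul_eq_zero_of_isCompact _ hU.isCompact (f x) _ hz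
  refine hn M (LinearMap.mem_ker.2 ?_)
  rw [map_smul, hM]

end Groth.Agent.H10Coh.LimStab
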