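import Mathlib.RingTheory.AlgebraicIndependent.TranscendenceBasis
import Mathlib.RingTheory.AlgebraicIndependent.RankAndCardinality
import Mathlib.RingTheory.AlgebraicIndependent.AlgebraicClosure
import Mathlib.Algebra.FreeAlgebra.Cardinality
import Mathlib.FieldTheory.IntermediateField.Adjoin.Basic
import Mathlib.SetTheory.Cardinal.Subfield
import Mathlib.LinearAlgebra.Basis.VectorSpace
import Mathlib.FieldTheory.IsAlgClosed.Classification

/-!
# Sequences avoiding finitely generated fields
-/

set_option autoImplicit false

universe u v

open Cardinal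

namespace Groth.Agent.H10Coh.LimStab

variable {K L : Type u} [Field K] [Field L] [Algebra K L]

/-- In an uncountable field over a countable one there is an independent sequence. -/
theorem exists_algebraicIndependent [Countable K] [Uncountable L] :
    ∃ l : ℕ → L, AlgebraicIndependent K l := by
  obtain ⟨s, hs⟩ := exists_isTranscendenceBasis K L
  have hinf : Infinite s := by
    rw [← not_finite_iff_infinite]
    intro hf
    haveI := hs.isAlgebraic
    have h := Algebra.IsAlgebraic.cardinalMk_le_max (Algebra.adjoin K (Set.range ((↑) : s → L))) L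
    refine (Cardinal.mk_le_aleph0_iff (α := L)).not.2 (not_countable (α := L)) (h.trans (max_le ?_ le_rfl))
    refine (Algebra.cardinalMk_adjoin_le K _).trans ?_
    simp only [max_le_iff, le_refl, and_true]
    exact ⟨Cardinal.mk_le_aleph0, Cardinal.mk_le_aleph0⟩
  exact ⟨fun n => (Infinite.natEmbedding s n : L),
    hs.1.comp _ (Infinite.natEmbedding s).injective⟩

/-- An independent sequence enters a finitely generated extension only finitely often. -/
theorem finite_setOf_mem_adjoin {l : ℕ → L} (hl : AlgebraicIndependent K l) (T : Finset L) :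
    {n | l n ∈ IntermediateField.adjoin K ((T : Set L) ∪ l '' Set.Iio n)}.Finite := by
  classical
  by_contra hinf
  obtain ⟨S, hS, hcard⟩ := Set.Infinite.exists_subset_card_eq hinf (T.card + 1)
  obtain ⟨N, hN⟩ := S.exists_nat_subset_range
  let Y : Finset L := T ∪ ((Finset.range N \ S).image l)
  let F : IntermediateField K L := IntermediateField.adjoin K (Y : Set L)
  have hmem : ∀ n, n < N → l n ∈ F := fun n => by
    induction n using Nat.strong_induction_on with
    | _ n ih =>
      intro hn
      by_cases h : n ∈ S
      · refine IntermediateField.adjoin_le_iff.2 ?_ (hS h)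
        rintro z (hz | ⟨i, hi, rfl⟩)
        · exact IntermediateField.subset_adjoin _ _ (Finset.mem_coe.2 (Finset.mem_union_left _ hz))
        · exact ih i hi (lt_trans hi hn)
      · exact IntermediateField.subset_adjoin _ _ (Finset.mem_coe.2 (Finset.mem_union_right _
          (Finset.mem_image.2 ⟨n, Finset.mem_sdiff.2 ⟨Finset.mem_range.2 hn, h⟩, rfl⟩)))
  have hind : AlgebraicIndependent K (fun i : Fin N => (⟨l i, hmem i i.2⟩ : F)) :=
    AlgebraicIndependent.of_comp F.val (hl.comp _ Fin.val_injective)
  haveI : Algebra.IsAlgebraic (Algebra.adjoin K (Subtype.val ⁻¹' (Y : Set L) : Set F)) F := by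
    rw [← IntermediateField.isAlgebraic_adjoin_iff_top]
    have htop : IntermediateField.adjoin K (Subtype.val ⁻¹' (Y : Set L) : Set F) = ⊤ := by
      refine IntermediateField.map_injective F.val ?_
      rw [IntermediateField.adjoin_map, ← AlgHom.fieldRange_eq_map, IntermediateField.fieldRange_val]
      refine congrArg (IntermediateField.adjoin K) ?_
      exact Set.image_preimage_eq_of_subset (fun z hz => ⟨⟨z, IntermediateField.subset_adjoin _ _ hz⟩, rfl⟩)
    rw [htop]
    exact ⟨fun a => ⟨Polynomial.X - Polynomial.C ⟨a, IntermediateField.mem_top⟩, Polynomial.X_sub_C_ne_zero _, by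
      simp only [map_sub, Polynomial.aeval_X, Polynomial.aeval_C]
      exact sub_self _⟩⟩
  have h1 := hind.lift_cardinalMk_le_trdeg
  have h2 : Algebra.trdeg K F ≤ #(Subtype.val ⁻¹' (Y : Set L) : Set F) := Algebra.IsAlgebraic.trdeg_le_cardinalMk K _
  have h3 : #(Subtype.val ⁻¹' (Y : Set L) : Set F) ≤ Y.card := by
    refine (Cardinal.mk_preimage_of_injective _ _ Subtype.val_injective).trans ?_
    simp
  have h4 : (N : Cardinal.{u}) ≤ (Y.card : Cardinal.{u}) := by
    refine le_trans ?_ (h2.trans h3)
    simpa using h1
  have h5 : Y.card ≤ T.card + (N - S.card) := by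
    refine (Finset.card_union_le _ _).trans (Nat.add_le_add_left (Finset.card_image_le.trans ?_) _)
    rw [Finset.card_sdiff, Finset.inter_eq_left.2 hN, Finset.card_range]
  have h6 : S.card ≤ N := by simpa using Finset.card_le_card hN
  have h7 : N ≤ Y.card := by exact_mod_cast h4
  omega

end Groth.Agent.H10Coh.LimStab
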