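import Groth.Agent.H10Coh.LimStab.Defect
import Groth.Prelude.Def_W4c2derhamsingLim
import Groth.Agent.S14354
import Groth.Agent.H10Coh.QCohOps
import Groth.Agent.H17.FPExt.Closure
import Mathlib.CategoryTheory.Functor.OfSequence

/-!
# The Mittag-Leffler condition and the first derived limit
-/

set_option autoImplicit false
set_option linter.style.haveILetI false
set_option backward.isDefEq.respectTransparency.types false

noncomputable section

universe u

open CategoryTheory CategoryTheory.Limits AlgebraicGeometry TopologicalSpace Opposite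
open scoped Pointwise

namespace Groth.Agent.H10Coh.LimStab

variable {X : Scheme.{u}} (F : ℕᵒᵖ ⥤ X.Modules)

/-- A family of sections as a section of the product. -/
theorem exists_prod_section (U : X.Opens) (y : ∀ k : ℕ, Γ(F.obj (op k), U)) :
    ∃ x : Γ(∏ᶜ fun k : ℕ => F.obj (op k), U),
      ∀ k, (Pi.π (fun k : ℕ => F.obj (op k)) k).app U x = y k := by
  let Φ := Scheme.Modules.toPresheaf X ⋙ (evaluation (X.Opens)ᵒᵖ AddCommGrpCat.{u}).obj (op U) ⋙
    CategoryTheory.forget AddCommGrpCat.{u}
  let D := Discrete.functor fun k : ℕ => F.obj (op k)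
  let σ : (D ⋙ Φ).sections := ⟨fun i => y i.as, by
    rintro ⟨i⟩ ⟨j⟩ f
    obtain rfl : i = j := Discrete.eq_of_hom f
    rw [show f = 𝟙 _ from Subsingleton.elim _ _, CategoryTheory.Functor.map_id]
    rfl⟩
  haveI : PreservesLimitsOfSize.{0, 0} (Scheme.Modules.toPresheaf X) := preservesLimitsOfSize_shrink _
  haveI : PreservesLimitsOfSize.{0, 0} ((evaluation (X.Opens)ᵒᵖ AddCommGrpCat.{u}).obj (op U)) :=
    preservesLimitsOfSize_shrink _
  haveI : PreservesLimitsOfSize.{0, 0} (CategoryTheory.forget AddCommGrpCat.{u}) :=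
    preservesLimitsOfSize_shrink _
  haveI : PreservesLimit D Φ := inferInstance
  let hl := isLimitOfPreserves Φ (productIsProduct fun k : ℕ => F.obj (op k))
  exact ⟨(Types.isLimitEquivSections hl).symm σ, fun k =>
    congrArg (fun w => w.1 ⟨k⟩) ((Types.isLimitEquivSections hl).apply_symm_apply σ)⟩

/-- Sections killed by a cokernel projection come from the source. -/
theorem exists_app_eq_of_cokernel {A B : X.Modules} (φ : A ⟶ B) [A.IsQuasicoherent] [B.IsQuasicoherent]
    {U : X.Opens} (hU : IsAffineOpen U) (b : Γ(B, U)) (hb : (cokernel.π φ).app U b = 0) :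
    ∃ a : Γ(A, U), φ.app U a = b := by
  let T := ShortComplex.mk φ (cokernel.π φ) (cokernel.condition φ)
  have hT : T.Exact := ShortComplex.exact_of_g_is_cokernel T (cokernelIsCokernel φ)
  haveI := isQuasicoherent_cokernel φ
  haveI := isQuasicoherent_kernel (cokernel.π φ)
  haveI : Epi (kernel.lift (cokernel.π φ) φ (cokernel.condition φ)) := T.exact_iff_epi_kernel_lift.1 hT
  have hl : ∃ z : Γ(kernel (cokernel.π φ), U), (kernel.ι (cokernel.π φ)).app U z = b :=
    H17.FPExt.exists_kernel_preimage (cokernel.π φ) U b hb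
  obtain ⟨z, rfl⟩ := hl
  obtain ⟨a, rfl⟩ := surjective_app_of_epi (kernel.lift (cokernel.π φ) φ (cokernel.condition φ)) hU z
  exact ⟨a, (congr(($(kernel.lift_ι (cokernel.π φ) φ (cokernel.condition φ))).app U a)).symm⟩

variable (n : ℕ)

/-- `F_{n+j} ⟶ F_n`. -/
abbrev toBot (j : ℕ) : F.obj (op (n + j)) ⟶ F.obj (op n) := F.map (homOfLE (Nat.le_add_right n j)).op

/-- The quotient by the image from level `n + j`. -/
abbrev qObj (j : ℕ) : X.Modules := cokernel (toBot F n j)

theorem toBot_succ (j : ℕ) :
    toBot F n (j + 1) = F.map (homOfLE (Nat.le_succ (n + j))).op ≫ toBot F n j := by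
  rw [toBot, toBot, ← F.map_comp]
  rfl

/-- The map of quotients. -/
def qMap (j : ℕ) : qObj F n (j + 1) ⟶ qObj F n j :=
  cokernel.desc _ (cokernel.π (toBot F n j)) (by
    rw [toBot_succ, Category.assoc, cokernel.condition, comp_zero])

/-- The tower of quotients by images. -/
def qTower : ℕᵒᵖ ⥤ X.Modules := Functor.ofOpSequence (X := qObj F n) (qMap F n)

theorem qTower_map (j : ℕ) : (qTower F n).map (homOfLE (Nat.le_succ j)).op = qMap F n j :=
  Functor.ofOpSequence_map_homOfLE_succ _ j

/-- The cone from `F_n`. -/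
def qCone : Cone (qTower F n) where
  pt := F.obj (op n)
  π := NatTrans.ofOpSequence (fun j => cokernel.π (toBot F n j)) fun j =>
    (Category.id_comp _).trans ((cokernel.π_desc _ _ _).symm.trans
      (congrArg (fun m => cokernel.π (toBot F n (j + 1)) ≫ m) (qTower_map F n j).symm))

/-- `F_n` to the limit of the quotients. -/
def qLift : F.obj (op n) ⟶ limit (qTower F n) := limit.lift (qTower F n) (qCone F n)

theorem qLift_π (j : ℕ) : qLift F n ≫ limit.π (qTower F n) (op j) = cokernel.π (toBot F n j) :=
  limit.lift_π _ _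

/-- The components of the defect map. -/
def defectComp (j : ℕ) : (∏ᶜ fun k : ℕ => F.obj (op k)) ⟶ qObj F n j :=
  ∑ i ∈ Finset.range j, Pi.π (fun k : ℕ => F.obj (op k)) (n + i) ≫ toBot F n i ≫ cokernel.π (toBot F n j)

theorem defectComp_succ (j : ℕ) : defectComp F n (j + 1) ≫ qMap F n j = defectComp F n j := by
  simp only [defectComp, qMap, Preadditive.sum_comp, Category.assoc, cokernel.π_desc]
  rw [Finset.sum_range_succ, cokernel.condition, comp_zero, add_zero]

/-- The cone of the defect map. -/
def defectCone : Cone (qTower F n) where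
  pt := ∏ᶜ fun k : ℕ => F.obj (op k)
  π := NatTrans.ofOpSequence (defectComp F n) fun j =>
    (Category.id_comp _).trans ((defectComp_succ F n j).symm.trans
      (congrArg (fun m => defectComp F n (j + 1) ≫ m) (qTower_map F n j).symm))

/-- The defect map. -/
def defect : (∏ᶜ fun k : ℕ => F.obj (op k)) ⟶ limit (qTower F n) := limit.lift _ (defectCone F n)

theorem defect_π (j : ℕ) : defect F n ≫ limit.π (qTower F n) (op j) = defectComp F n j :=
  limit.lift_π _ _

theorem towerDiff_defectComp (j : ℕ) :
    LimSh.towerDiffSh F ≫ defectComp F n j =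
      Pi.π (fun k : ℕ => F.obj (op k)) n ≫ cokernel.π (toBot F n j) := by
  have e : ∀ i, LimSh.towerDiffSh F ≫ Pi.π (fun k : ℕ => F.obj (op k)) (n + i) ≫ toBot F n i =
      Pi.π (fun k : ℕ => F.obj (op k)) (n + i) ≫ toBot F n i -
        Pi.π (fun k : ℕ => F.obj (op k)) (n + (i + 1)) ≫ toBot F n (i + 1) := fun i => by
    rw [toBot_succ, ← Category.assoc, LimSh.towerDiffSh, Pi.lift_π, Preadditive.sub_comp, Category.assoc]
    rfl
  rw [defectComp, Preadditive.comp_sum]
  simp only [← Category.assoc]
  rw [← Preadditive.sum_comp]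
  simp only [Category.assoc]
  rw [Finset.sum_congr rfl fun i _ => e i, Finset.sum_range_sub', Preadditive.sub_comp, Category.assoc,
    Category.assoc, cokernel.condition, comp_zero, sub_zero]
  have h0 : toBot F n 0 = 𝟙 _ := F.map_id _
  rw [h0, Category.id_comp]
  rfl

theorem towerDiff_defect :
    LimSh.towerDiffSh F ≫ defect F n = Pi.π (fun k : ℕ => F.obj (op k)) n ≫ qLift F n := by
  refine limit.hom_ext fun i => ?_
  obtain ⟨j, rfl⟩ : ∃ j, i = op j := ⟨i.unop, rfl⟩
  rw [Category.assoc, defect_π, Category.assoc, qLift_π]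
  exact towerDiff_defectComp F n j

/-- The comparison from the first derived limit. -/
def toCoker : LimSh.limOneSh F ⟶ cokernel (qLift F n) :=
  cokernel.desc _ (defect F n ≫ cokernel.π _) (by
    rw [← Category.assoc, towerDiff_defect, Category.assoc, cokernel.condition, comp_zero])

/-- A section of the module of sections with a countable spanning set lifting the image. -/
theorem exists_countable_lift {k R V W : Type u} [Field k] [CommRing R] [Algebra k R] [Algebra.FiniteType k R]
    [AddCommGroup V] [Module R V] [AddCommGroup W] [Module R W] (f : V →ₗ[R] W)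
    (hW : ∃ w : Set W, w.Countable ∧ LinearMap.range f ≤ Submodule.span R w) :
    ∃ s : Set V, s.Countable ∧ ∀ v, ∃ t ∈ Submodule.span R s, f (v - t) = 0 := by
  letI : Module k W := Module.compHom _ (algebraMap k R)
  haveI : IsScalarTower k R W := ⟨fun a r x => by rw [Algebra.smul_def, mul_smul]; rfl⟩
  obtain ⟨w, hw, hle⟩ := hW
  obtain ⟨sR, hsR, hR⟩ := exists_countable_span k R
  let Wk : Submodule k W := (LinearMap.range f).restrictScalars k
  have hrank : Module.rank k Wk ≤ Cardinal.aleph0 := by
    have h1 : Wk ≤ Submodule.span k (sR • w) := by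
      rw [Submodule.span_smul_of_span_eq_top hR]
      exact fun x hx => hle hx
    exact (Submodule.rank_mono h1).trans ((rank_span_le _).trans
      (Cardinal.le_aleph0_iff_set_countable.2 (hsR.image2 hw _)))
  let b := Module.Basis.ofVectorSpace k Wk
  have hι : Countable (Module.Basis.ofVectorSpaceIndex k Wk) := by
    rw [← b.mk_eq_rank''] at hrank
    exact Cardinal.mk_le_aleph0_iff.1 hrank
  have hb : ∀ i, ∃ v, f v = (b i : W) := fun i => (b i).2
  choose v hv using hb
  refine ⟨Set.range v, Set.countable_range v, fun x => ?_⟩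
  have hx : f x ∈ Submodule.span R (f '' Set.range v) := by
    have h2 : (⟨f x, LinearMap.mem_range_self f x⟩ : Wk) ∈ Submodule.span k (Set.range b) :=
      b.span_eq ▸ Submodule.mem_top
    have h3 : f x ∈ Submodule.span k ((↑) '' Set.range b : Set W) :=
      (Submodule.span_image Wk.subtype).ge (Submodule.mem_map_of_mem h2)
    refine Submodule.span_le_restrictScalars k R _ (Submodule.span_mono ?_ h3)
    rintro _ ⟨_, ⟨i, rfl⟩, rfl⟩
    exact ⟨v i, Set.mem_range_self i, hv i⟩
  rw [Submodule.span_image] at hx
  obtain ⟨t, ht, e⟩ := hx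
  exact ⟨t, ht, by rw [map_sub, e, sub_self]⟩

theorem stabilises_of_limOne (k : Type u) [Field k] [X.Over (Spec (CommRingCat.of k))]
    [LocallyOfFiniteType (X ↘ Spec (CommRingCat.of k))]
    (hF : ∀ n : ℕ, Coh.IsQCoh (F.obj (op n))) {U : X.Opens} (hU : IsAffineOpen U)
    (hFc : ∃ s : Set Γ(F.obj (op n), U), s.Countable ∧ Submodule.span Γ(X, U) s = ⊤)
    (hW : Coh.IsQCoh (LimSh.limOneSh F))
    (hWc : ∃ s : Set Γ(LimSh.limOneSh F, U), s.Countable ∧ Submodule.span Γ(X, U) s = ⊤) :
    ∃ N, ∀ j, N ≤ j → ∀ a : Γ(F.obj (op (n + j)), U),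
      ∃ a' : Γ(F.obj (op (n + (j + 1))), U), (toBot F n (j + 1)).app U a' = (toBot F n j).app U a := by
  let φ : k →+* Γ(X, U) := ((X ↘ Spec (CommRingCat.of k)).appLE ⊤ U (by simp)).hom.comp
    (Scheme.ΓSpecIso (CommRingCat.of k)).inv.hom
  have hφ : φ.FiniteType :=
    ((X ↘ Spec (CommRingCat.of k)).finiteType_appLE (isAffineOpen_top _) hU _).comp
      (RingHom.FiniteType.of_surjective _ (Scheme.ΓSpecIso (CommRingCat.of k)).commRingCatIsoToRingEquiv.symm.surjective)
  algebraize [φ]
  haveI : ∀ i, (F.obj (op i)).IsQuasicoherent := hF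
  haveI : (LimSh.limOneSh F).IsQuasicoherent := hW
  let c := qCone F n
  let q : Γ(∏ᶜ fun k : ℕ => F.obj (op k), U) →ₗ[Γ(X, U)] Γ(limit (qTower F n), U) :=
    { toFun := fun s => (defect F n).app U s, map_add' := map_add _,
      map_smul' := fun r s => (defect F n).app_smul r s }
  let π' : Γ(limit (qTower F n), U) →ₗ[Γ(X, U)] Γ(cokernel (qLift F n), U) :=
    { toFun := fun s => (cokernel.π (qLift F n)).app U s, map_add' := map_add _,
      map_smul' := fun r s => (cokernel.π (qLift F n)).app_smul r s }
  let δ : Γ(LimSh.limOneSh F, U) →ₗ[Γ(X, U)] Γ(cokernel (qLift F n), U) :=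
    { toFun := fun s => (toCoker F n).app U s, map_add' := map_add _,
      map_smul' := fun r s => (toCoker F n).app_smul r s }
  obtain ⟨w, hw, hwspan⟩ := hWc
  have hrange : LinearMap.range (π'.comp q) ≤ Submodule.span Γ(X, U) (δ '' w) := by
    rintro _ ⟨x, rfl⟩
    rw [Submodule.span_image]
    refine ⟨(cokernel.π (LimSh.towerDiffSh F)).app U x, hwspan.symm ▸ Submodule.mem_top, ?_⟩
    exact congr(($(cokernel.π_desc (LimSh.towerDiffSh F) (defect F n ≫ cokernel.π _) _)).app U x)
  obtain ⟨s, hs, hsspan⟩ := exists_countable_lift (k := k) (π'.comp q) ⟨δ '' w, hw.image _, hrange⟩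
  have hQ : ∀ j : ℕ, Coh.IsQCoh ((qTower F n).obj (op j)) := fun j => isQuasicoherent_cokernel (toBot F n j)
  obtain ⟨N, hN⟩ := ker_eventually_const_of_defect (qTower F n) c U k hQ (hF n) hU hFc
    (q '' s) (hs.image _) (fun b hb => by
      choose y hy using fun i => exists_app_eq_of_cokernel (toBot F n i) hU (b i) (hb i)
      obtain ⟨x, hx⟩ := exists_prod_section F U fun m =>
        if h : n ≤ m then (F.map (eqToHom (congrArg op (Nat.add_sub_cancel' h)))).app U (y (m - n)) else 0
      have hx' : ∀ i, (toBot F n i).app U ((Pi.π (fun k : ℕ => F.obj (op k)) (n + i)).app U x) = b i := by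
        intro i
        rw [hx (n + i), dif_pos (Nat.le_add_right n i), ← hy i]
        have hni : n + (n + i - n) = n + i := by omega
        have : ∀ (j : ℕ) (h : n + j = n + i),
            (toBot F n i).app U ((F.map (eqToHom (congrArg op h))).app U (y j)) = (toBot F n j).app U (y j) := by
          intro j h
          obtain rfl : j = i := by omega
          exact congrArg _ (congr(($(F.map_id _)).app U (y j)))
        refine (this _ hni).trans ?_
        rw [Nat.add_sub_cancel_left]
      obtain ⟨t, ht, htx⟩ := hsspan x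
      refine ⟨q x, fun j => ?_, q t, ?_, fun p hp => ?_⟩
      · refine (congr(($(defect_π F n j)).app U x)).trans ?_
        rw [map_sum, defectComp]
        have hsum : ∀ (s : Finset ℕ) (f : ℕ → ((∏ᶜ fun k : ℕ => F.obj (op k)) ⟶ qObj F n j)),
            (∑ i ∈ s, f i).app U x = ∑ i ∈ s, (f i).app U x := fun s f => by
          classical
          induction s using Finset.induction_on with
          | empty => simp only [Finset.sum_empty]; rfl
          | insert i s hi ih =>
            rw [Finset.sum_insert hi, Finset.sum_insert hi, ← ih]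
            rfl
        rw [hsum]
        exact Finset.sum_congr rfl fun i _ => congrArg ((cokernel.π (toBot F n j)).app U) (hx' i)
      · rw [Submodule.span_image]
        exact Submodule.mem_map_of_mem ht
      · have h0 : (cokernel.π (qLift F n)).app U (q x - q t) = 0 := by
          rw [← map_sub]; exact htx
        let T := ShortComplex.mk _ _ (cokernel.condition (qLift F n))
        have hT : T.Exact := ShortComplex.exact_of_g_is_cokernel T (cokernelIsCokernel _)
        haveI : Epi (kernel.lift (cokernel.π (qLift F n)) (qLift F n)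
            (cokernel.condition _)) := T.exact_iff_epi_kernel_lift.1 hT
        obtain ⟨z, hz⟩ := H17.FPExt.exists_kernel_preimage (cokernel.π (qLift F n)) U _ h0
        obtain ⟨V, hV, hpV, g, hg⟩ := exists_nhds_lift_of_epi (kernel.lift (cokernel.π (qLift F n))
          (qLift F n) (cokernel.condition _)) U z p hp
        refine ⟨V, hV, hpV, g, ?_⟩
        rw [← hz]
        refine (congr(($(kernel.lift_ι (cokernel.π (qLift F n)) (qLift F n)
          (cokernel.condition _))).app V g)).symm.trans ?_
        refine (congrArg ((kernel.ι (cokernel.π (qLift F n))).app V) hg).trans ?_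
        exact H11Tilde.app_map_apply _ hV z)
  refine ⟨N, fun j hj a => ?_⟩
  haveI : ((qTower F n).obj (op (j + 1))).IsQuasicoherent := hQ _
  refine exists_app_eq_of_cokernel (toBot F n (j + 1)) hU _ ?_
  exact hN j hj (LinearMap.mem_ker.2 (congr(($(cokernel.condition (toBot F n j))).app U a)))

end Groth.Agent.H10Coh.LimStab
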