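import Groth.Agent.H10Coh.LimStab.ML

/-!
# The equivalence of the Mittag-Leffler condition and the vanishing of the first derived limit
-/

set_option autoImplicit false
set_option linter.style.haveILetI false
set_option backward.isDefEq.respectTransparency.types false

noncomputable section

universe u

open CategoryTheory CategoryTheory.Limits AlgebraicGeometry TopologicalSpace Opposite
open Groth.Agent.S14354

namespace Groth.Agent.H10Coh.LimStab

variable {X : Scheme.{u}} (F : ℕᵒᵖ ⥤ X.Modules) (V : X.Opens)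

theorem stable_add {m : ℕ} {s t : Γ(F.obj (op m), V)} (hs : Stable F V m s) (ht : Stable F V m t) :
    Stable F V m (s + t) := fun d h => by
  obtain ⟨a, ha⟩ := hs d h
  obtain ⟨b, hb⟩ := ht d h
  exact ⟨a + b, (map_add _ _ _).trans (congrArg₂ (· + ·) ha hb)⟩

theorem stable_zero {m : ℕ} : Stable F V m 0 := fun _ _ => ⟨0, map_zero _⟩

theorem stable_sub {m : ℕ} {s t : Γ(F.obj (op m), V)} (hs : Stable F V m s) (ht : Stable F V m t) :
    Stable F V m (s - t) := fun d h => by
  obtain ⟨a, ha⟩ := hs d h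
  obtain ⟨b, hb⟩ := ht d h
  exact ⟨a - b, (map_sub _ _ _).trans (congrArg₂ (· - ·) ha hb)⟩

theorem stable_sum {m : ℕ} {ι : Type*} (s : Finset ι) (f : ι → Γ(F.obj (op m), V))
    (h : ∀ i ∈ s, Stable F V m (f i)) : Stable F V m (∑ i ∈ s, f i) := by
  classical
  induction s using Finset.induction_on with
  | empty => simpa using stable_zero F V
  | insert i s hi ih =>
    rw [Finset.sum_insert hi]
    exact stable_add F V (h i (Finset.mem_insert_self i s)) (ih fun j hj => h j (Finset.mem_insert_of_mem hj))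

/-- A Mittag-Leffler tower of sections has no first derived limit. -/
theorem exists_diff_eq (hst : Stabilizes F V) (y : ∀ k : ℕ, Γ(F.obj (op k), V)) :
    ∃ x : ∀ k : ℕ, Γ(F.obj (op k), V), ∀ k, x k - tr F V (Nat.le_succ k) (x (k + 1)) = y k := by
  classical
  choose D₀ hD₀ hs₀ using hst
  let D : ℕ → ℕ := fun k => (Finset.range (k + 1)).sup fun i => D₀ i + 1
  have hD : Monotone D := fun a b h => Finset.sup_mono (Finset.range_mono (Nat.succ_le_succ h))
  have hDk : ∀ k, D₀ k + 1 ≤ D k := fun k =>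
    Finset.le_sup (f := fun i => D₀ i + 1) (Finset.mem_range.2 k.lt_succ_self)
  have hkD : ∀ k, k + 1 ≤ D k := fun k => le_trans (Nat.succ_le_succ (hD₀ k)) (hDk k)
  let w : ∀ i k : ℕ, Γ(F.obj (op k), V) := fun i k => if h : k ≤ i then tr F V h (y i) else 0
  have hw : ∀ i k, k + 1 ≤ i → tr F V (Nat.le_succ k) (w i (k + 1)) = w i k := fun i k h => by
    simp only [w, dif_pos h, dif_pos ((Nat.le_succ k).trans h)]
    exact tr_tr F V _ _ _
  let e : ∀ k, Γ(F.obj (op k), V) := fun k => ∑ i ∈ Finset.Ico (D k) (D (k + 1)), w i k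
  have he : ∀ k, Stable F V k (e k) := fun k => stable_sum F V _ _ fun i hi => by
    have h1 : D₀ k ≤ i := by
      have := (Finset.mem_Ico.1 hi).1
      have := hDk k
      omega
    have h2 : w i k = tr F V (hD₀ k) (tr F V h1 (y i)) := by
      simp only [w, dif_pos ((hD₀ k).trans h1)]
      exact (tr_tr F V _ _ _).symm
    rw [h2]
    exact hs₀ k _
  let S : ∀ k, Γ(F.obj (op k), V) := fun k => ∑ i ∈ Finset.Ico k (D k), w i k
  have hS : ∀ k, S k - tr F V (Nat.le_succ k) (S (k + 1)) = y k - e k := fun k => by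
    have h1 : tr F V (Nat.le_succ k) (S (k + 1)) = ∑ i ∈ Finset.Ico (k + 1) (D (k + 1)), w i k := by
      refine (map_sum ((F.map (homOfLE (Nat.le_succ k)).op).app V).hom _ _).trans (Finset.sum_congr rfl fun i hi => ?_)
      exact hw i k (Finset.mem_Ico.1 hi).1
    have h2 : w k k = y k := by
      simp only [w, dif_pos (le_refl k)]
      exact tr_self F V _ _
    have h3 : ∑ i ∈ Finset.Ico (k + 1) (D (k + 1)), w i k =
        ∑ i ∈ Finset.Ico (k + 1) (D k), w i k + e k :=
      (Finset.sum_Ico_consecutive _ (hkD k) (hD (Nat.le_succ k))).symm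
    have h4 : S k = y k + ∑ i ∈ Finset.Ico (k + 1) (D k), w i k := by
      rw [← h2]
      exact Finset.sum_eq_sum_Ico_succ_bot (Nat.lt_of_succ_le (hkD k)) _
    rw [h1, h3, h4]
    abel
  have hnext : ∀ k (t : {t : Γ(F.obj (op k), V) // Stable F V k t}),
      ∃ t' : {t : Γ(F.obj (op (k + 1)), V) // Stable F V (k + 1) t},
        tr F V (Nat.le_succ k) t'.1 = t.1 - e k := fun k t => by
    obtain ⟨t', h, h'⟩ := exists_next F V (fun m => ⟨D₀ m, hD₀ m, hs₀ m⟩) k _ (stable_sub F V t.2 (he k))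
    exact ⟨⟨t', h⟩, h'⟩
  choose nx hnx using hnext
  let z : ∀ k, {t : Γ(F.obj (op k), V) // Stable F V k t} := fun k =>
    Nat.rec (motive := fun k => {t : Γ(F.obj (op k), V) // Stable F V k t}) ⟨0, stable_zero F V⟩ nx k
  refine ⟨fun k => S k + (z k).1, fun k => ?_⟩
  have hz : tr F V (Nat.le_succ k) (z (k + 1)).1 = (z k).1 - e k := hnx k (z k)
  have hadd : tr F V (Nat.le_succ k) (S (k + 1) + (z (k + 1)).1) =
      tr F V (Nat.le_succ k) (S (k + 1)) + tr F V (Nat.le_succ k) (z (k + 1)).1 := map_add _ _ _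
  rw [hadd, hz]
  show S k + (z k).1 - _ = _
  rw [eq_add_of_sub_eq (hS k)]
  abel

theorem eq_of_pi (s t : Γ(∏ᶜ fun k : ℕ => F.obj (op k), V))
    (h : ∀ k, (Pi.π (fun k : ℕ => F.obj (op k)) k).app V s = (Pi.π (fun k : ℕ => F.obj (op k)) k).app V t) :
    s = t := by
  let Φ := Scheme.Modules.toPresheaf X ⋙ (evaluation (X.Opens)ᵒᵖ AddCommGrpCat.{u}).obj (op V) ⋙
    CategoryTheory.forget AddCommGrpCat.{u}
  let D := Discrete.functor fun k : ℕ => F.obj (op k)
  haveI : PreservesLimitsOfSize.{0, 0} (Scheme.Modules.toPresheaf X) := preservesLimitsOfSize_shrink _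
  haveI : PreservesLimitsOfSize.{0, 0} ((evaluation (X.Opens)ᵒᵖ AddCommGrpCat.{u}).obj (op V)) :=
    preservesLimitsOfSize_shrink _
  haveI : PreservesLimitsOfSize.{0, 0} (CategoryTheory.forget AddCommGrpCat.{u}) :=
    preservesLimitsOfSize_shrink _
  haveI : PreservesLimit D Φ := inferInstance
  let hl := isLimitOfPreserves Φ (productIsProduct fun k : ℕ => F.obj (op k))
  refine (Types.isLimitEquivSections hl).injective (Subtype.ext (funext fun i => ?_))
  exact h i.as

theorem stabilizes_of_ml (hF : ∀ n : ℕ, Coh.IsQCoh (F.obj (op n)))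
    (hML : ∀ n : ℕ, ∃ (m : ℕ) (hm : n ≤ m), ∀ (m' : ℕ) (hm' : m ≤ m'),
      imageSubobject (F.map (homOfLE (hm.trans hm')).op) = imageSubobject (F.map (homOfLE hm).op))
    {V : X.Opens} (hV : IsAffineOpen V) : Stabilizes F V := by
  intro m
  obtain ⟨D, hD, h⟩ := hML m
  refine ⟨D, hD, fun a d hd => ?_⟩
  rcases le_total D d with h1 | h1
  · exact exists_of_imageSubobject_eq _ _ (hF _) (hF _) (hF _) (h d h1).symm hV a
  · exact ⟨tr F V h1 a, tr_tr F V hd h1 a⟩

theorem isZero_limOne (hF : ∀ n : ℕ, Coh.IsQCoh (F.obj (op n)))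
    (hML : ∀ n : ℕ, ∃ (m : ℕ) (hm : n ≤ m), ∀ (m' : ℕ) (hm' : m ≤ m'),
      imageSubobject (F.map (homOfLE (hm.trans hm')).op) = imageSubobject (F.map (homOfLE hm).op)) :
    IsZero (LimSh.limOneSh F) := by
  haveI : Epi (LimSh.towerDiffSh F) := H11Tilde.epi_of_locally_surjective _ fun W t x hx => by
    obtain ⟨V, hV, hxV, hVW⟩ := exists_isAffineOpen_mem_and_subset (U := W) (x := x) hx
    refine ⟨V, hVW, hxV, ?_⟩
    let y : ∀ k, Γ(F.obj (op k), V) := fun k =>
      (Pi.π (fun k : ℕ => F.obj (op k)) k).app V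
        ((∏ᶜ fun k : ℕ => F.obj (op k)).presheaf.map (homOfLE hVW).op t)
    obtain ⟨x', hx'⟩ := exists_diff_eq F V (stabilizes_of_ml F hF hML hV) y
    obtain ⟨s, hs⟩ := exists_prod_section F V x'
    refine ⟨s, eq_of_pi F V _ _ fun k => ?_⟩
    refine (congr(($(Pi.lift_π (fun n : ℕ => Pi.π (fun n : ℕ => F.obj (op n)) n -
      Pi.π (fun n : ℕ => F.obj (op n)) (n + 1) ≫ F.map (homOfLE (Nat.le_succ n)).op) k)).app V s)).trans ?_
    show (Pi.π (fun n : ℕ => F.obj (op n)) k).app V s -
      tr F V (Nat.le_succ k) ((Pi.π (fun n : ℕ => F.obj (op n)) (k + 1)).app V s) = y k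
    rw [hs k, hs (k + 1)]
    exact hx' k
  exact isZero_cokernel_of_epi (LimSh.towerDiffSh F)

theorem ml_of_limOne (k : Type u) [Field k] [X.Over (Spec (CommRingCat.of k))]
    [LocallyOfFiniteType (X ↘ Spec (CommRingCat.of k))] [CompactSpace X]
    (hF : ∀ n : ℕ, Coh.IsQCoh (F.obj (op n)))
    (hFc : ∀ (n : ℕ) (U : X.affineOpens), ∃ s : Set Γ(F.obj (op n), (U : X.Opens)),
      s.Countable ∧ Submodule.span Γ(X, (U : X.Opens)) s = ⊤)
    (hW : Coh.IsQCoh (LimSh.limOneSh F))
    (hWc : ∀ U : X.affineOpens, ∃ s : Set Γ(LimSh.limOneSh F, (U : X.Opens)),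
      s.Countable ∧ Submodule.span Γ(X, (U : X.Opens)) s = ⊤) (n : ℕ) :
    ∃ (m : ℕ) (hm : n ≤ m), ∀ (m' : ℕ) (hm' : m ≤ m'),
      imageSubobject (F.map (homOfLE (hm.trans hm')).op) = imageSubobject (F.map (homOfLE hm).op) := by
  obtain ⟨q, U, hU, -, hcov⟩ := exists_finite_affine_cover (W := (⊤ : X.Opens)) isCompact_univ
  choose N hN using fun j => stabilises_of_limOne F n k hF (hU j) (hFc n ⟨U j, hU j⟩) hW (hWc ⟨U j, hU j⟩)
  let M := Finset.univ.sup N
  refine ⟨n + M, Nat.le_add_right n M, fun m' hm' => le_antisymm ?_ ?_⟩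
  · have e : F.map (homOfLE hm').op ≫ F.map (homOfLE (Nat.le_add_right n M)).op =
        F.map (homOfLE ((Nat.le_add_right n M).trans hm')).op := by
      rw [← F.map_comp]; rfl
    rw [← e]
    exact imageSubobject_comp_le _ _
  · obtain ⟨j, rfl⟩ : ∃ j, m' = n + j := ⟨m' - n, by omega⟩
    have hj : M ≤ j := by omega
    haveI : ∀ i, (F.obj (op i)).IsQuasicoherent := hF
    -- on each member of the cover the images agree
    have hsec : ∀ (i : Fin q) (a : Γ(F.obj (op (n + M)), U i)),
        ∃ a' : Γ(F.obj (op (n + j)), U i), (toBot F n j).app (U i) a' = (toBot F n M).app (U i) a := by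
      intro i
      induction j, hj using Nat.le_induction with
      | base => exact fun a => ⟨a, rfl⟩
      | succ b hb ih =>
        intro a
        obtain ⟨a', ha'⟩ := ih (Nat.add_le_add_left hb n) a
        obtain ⟨a'', ha''⟩ := hN i b ((Finset.le_sup (f := N) (Finset.mem_univ i)).trans hb) a'
        exact ⟨a'', ha''.trans ha'⟩
    have hzero : toBot F n M ≫ cokernel.π (toBot F n j) = 0 := by
      refine Scheme.Modules.hom_ext _ _ fun W => ?_
      ext s
      refine H11Tilde.eq_of_locally _ _ fun x hx => ?_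
      obtain ⟨i, hi⟩ := Opens.mem_iSup.1 (hcov (trivial : x ∈ (⊤ : X.Opens)))
      obtain ⟨f, hf, hxf⟩ := (hU i).exists_basicOpen_le ⟨x, hx⟩ hi
      refine ⟨X.basicOpen f, hf, hxf, ?_⟩
      rw [← H11Tilde.app_map_apply (toBot F n M ≫ cokernel.π (toBot F n j)) hf s,
        ← H11Tilde.app_map_apply (0 : F.obj (op (n + M)) ⟶ _) hf s]
      generalize (F.obj (op (n + M))).presheaf.map (homOfLE hf).op s = s'
      show _ = 0
      obtain ⟨m, s₀, hs₀⟩ := exists_pow_smul_eq_res (F.obj (op (n + M))) (hU i) f s'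
      obtain ⟨a', ha'⟩ := hsec i s₀
      have h0 : (toBot F n M ≫ cokernel.π (toBot F n j)).app (U i) s₀ = 0 := by
        show (cokernel.π (toBot F n j)).app (U i) ((toBot F n M).app (U i) s₀) = 0
        rw [← ha']
        exact congr(($(cokernel.condition (toBot F n j))).app (U i) a')
      have h1 := congrArg ((cokernel (toBot F n j)).presheaf.map (homOfLE (X.basicOpen_le f)).op) h0
      rw [map_zero, ← H11Tilde.app_map_apply, hs₀, Scheme.Modules.Hom.app_smul, map_pow] at h1
      have hu : IsUnit (X.presheaf.map (homOfLE (X.basicOpen_le f)).op f) :=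
        X.toRingedSpace.isUnit_res_basicOpen f
      exact ((hu.pow m).smul_eq_zero).1 h1
    exact imageSubobject_le (toBot F n M)
      (kernel.lift _ (toBot F n M) hzero ≫ (Abelian.imageIsoImage (toBot F n j)).hom ≫
        (imageSubobjectIso (toBot F n j)).inv)
      (by
        rw [Category.assoc, Category.assoc, imageSubobject_arrow', Abelian.imageIsoImage_hom_comp_image_ι]
        exact kernel.lift_ι _ _ _)

end Groth.Agent.H10Coh.LimStab
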