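import Groth.Agent.H10Coh.LimStab.Sheaf
import Groth.Prelude.Def_Coh
import Groth.Agent.H10Coh.QCohOps
import Mathlib.CategoryTheory.Functor.OfSequence

/-!
# Limits of towers receiving an epimorphism from a countably generated module
-/

set_option autoImplicit false
set_option linter.style.haveILetI false
set_option backward.isDefEq.respectTransparency.types false

noncomputable section

universe u

open CategoryTheory CategoryTheory.Limits AlgebraicGeometry TopologicalSpace Opposite

namespace Groth.Agent.H10Coh.LimStab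

variable {X : Scheme.{u}}

theorem isQCoh_abelianImage {A B : X.Modules} (φ : A ⟶ B) (hA : Coh.IsQCoh A)
    (hB : Coh.IsQCoh B) : Coh.IsQCoh (Abelian.image φ) := by
  haveI : A.IsQuasicoherent := hA
  haveI : B.IsQuasicoherent := hB
  haveI := isQuasicoherent_cokernel φ
  exact isQuasicoherent_kernel (cokernel.π φ)

variable (F : ℕᵒᵖ ⥤ X.Modules) {G : X.Modules} (φ : G ⟶ limit F)

/-- The component of the map into the limit. -/
abbrev comp' (n : ℕ) : G ⟶ F.obj (op n) := φ ≫ limit.π F (op n)

theorem comp'_map (n : ℕ) : comp' F φ (n + 1) ≫ F.map (homOfLE (Nat.le_succ n)).op = comp' F φ n := by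
  rw [comp', Category.assoc, limit.w]

/-- The map of images. -/
def imgMap (n : ℕ) : Abelian.image (comp' F φ (n + 1)) ⟶ Abelian.image (comp' F φ n) :=
  kernel.lift _ (Abelian.image.ι _ ≫ F.map (homOfLE (Nat.le_succ n)).op) (by
    rw [← cancel_epi (Abelian.factorThruImage (comp' F φ (n + 1))), comp_zero, ← Category.assoc,
      ← Category.assoc, Abelian.image.fac, comp'_map]
    exact cokernel.condition _)

/-- The tower of images. -/
def imgTower : ℕᵒᵖ ⥤ X.Modules :=
  Functor.ofOpSequence (X := fun n => Abelian.image (comp' F φ n)) (imgMap F φ)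

theorem imgTower_map (n : ℕ) : (imgTower F φ).map (homOfLE (Nat.le_succ n)).op = imgMap F φ n :=
  Functor.ofOpSequence_map_homOfLE_succ _ n

theorem fac_imgMap (n : ℕ) :
    Abelian.factorThruImage (comp' F φ (n + 1)) ≫ imgMap F φ n = Abelian.factorThruImage (comp' F φ n) := by
  rw [← cancel_mono (Abelian.image.ι (comp' F φ n)), Category.assoc, imgMap, kernel.lift_ι, ← Category.assoc,
    Abelian.image.fac, comp'_map, Abelian.image.fac]

/-- The cone from the source. -/
def imgCone : Cone (imgTower F φ) where
  pt := G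
  π := NatTrans.ofOpSequence (fun n => Abelian.factorThruImage (comp' F φ n)) fun n =>
    (Category.id_comp _).trans ((fac_imgMap F φ n).symm.trans
      (congrArg (fun m => Abelian.factorThruImage (comp' F φ (n + 1)) ≫ m) (imgTower_map F φ n).symm))

/-- The inclusion of the tower of images. -/
def imgIncl : imgTower F φ ⟶ F :=
  NatTrans.ofOpSequence (fun n => Abelian.image.ι (comp' F φ n)) fun n => by
    rw [imgTower_map]
    exact kernel.lift_ι _ _ _

theorem isQCoh_limit (k : Type u) [Field k] [X.Over (Spec (CommRingCat.of k))]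
    [LocallyOfFiniteType (X ↘ Spec (CommRingCat.of k))] [CompactSpace X]
    (hF : ∀ n : ℕ, Coh.IsQCoh (F.obj (op n))) (hG : Coh.IsQCoh G)
    (hGc : ∀ U : X.affineOpens, ∃ s : Set Γ(G, (U : X.Opens)),
      s.Countable ∧ Submodule.span Γ(X, (U : X.Opens)) s = ⊤) [hφ : Epi φ] :
    Coh.IsQCoh (limit F) := by
  let Q := imgTower F φ
  let c := imgCone F φ
  have hQ : ∀ n : ℕ, Coh.IsQCoh (Q.obj (op n)) := fun n => isQCoh_abelianImage _ hG (hF n)
  have hfac : limit.lift Q c ≫ limMap (imgIncl F φ) = φ := by
    refine limit.hom_ext fun i => ?_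
    rw [Category.assoc, limMap_π, limit.lift_π_assoc]
    exact Abelian.image.fac (comp' F φ i.unop)
  haveI : ∀ i, Mono ((imgIncl F φ).app i) := fun i => inferInstanceAs (Mono (Abelian.image.ι _))
  haveI : Mono (limMap (imgIncl F φ)) := Limits.limMap_mono _
  haveI : Epi (limit.lift Q c ≫ limMap (imgIncl F φ)) := by rw [hfac]; exact hφ
  haveI : Epi (limMap (imgIncl F φ)) := epi_of_epi (limit.lift Q c) _
  haveI : IsIso (limMap (imgIncl F φ)) := isIso_of_mono_of_epi _
  have hl : Epi (limit.lift Q c) := by
    rw [show limit.lift Q c = φ ≫ inv (limMap (imgIncl F φ)) from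
      (IsIso.eq_comp_inv _).2 hfac]
    exact @epi_comp _ _ _ _ _ φ hφ (inv (limMap (imgIncl F φ))) inferInstance
  have hepi : ∀ n : ℕ, Epi (c.π.app (op n)) := fun n => inferInstanceAs (Epi (Abelian.factorThruImage _))
  obtain ⟨N, hN⟩ := eventually_isIso Q c k hQ hG hGc hepi hl
  have hev : Q.IsEventuallyConstantTo (op N) := fun j f => by
    have hj : N ≤ j.unop := f.unop.le
    have e : f = (homOfLE hj).op := Quiver.Hom.unop_inj (Subsingleton.elim _ _)
    rw [e]
    have key : ∀ (a : ℕ) (h : N ≤ a), IsIso (Q.map (homOfLE h).op) := by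
      intro a h
      induction a, h using Nat.le_induction with
      | base => rw [show (homOfLE (le_refl N)).op = 𝟙 (op N) from rfl, Q.map_id]; infer_instance
      | succ b h ih =>
        haveI := hN b h
        rw [show (homOfLE (h.trans (Nat.le_succ b))).op = (homOfLE (Nat.le_succ b)).op ≫ (homOfLE h).op from rfl,
          Q.map_comp]
        infer_instance
    exact key j.unop hj
  haveI : IsIso (limit.π Q (op N)) := hev.isIso_π_of_isLimit (limit.isLimit Q)
  haveI : (Q.obj (op N)).IsQuasicoherent := hQ N
  exact isQuasicoherent_of_iso ((asIso (limit.π Q (op N))).symm ≪≫ asIso (limMap (imgIncl F φ)))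

end Groth.Agent.H10Coh.LimStab
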