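import Groth.Agent.H10Coh.LimStab.Core
import Groth.Agent.H10Coh.Local
import Groth.Agent.LeadDev.Sub
import Groth.Agent.H11Tilde.ModLoc
import Mathlib.CategoryTheory.Limits.Constructions.EventuallyConstant
import Mathlib.RingTheory.FiniteType

/-!
# Towers of quasi-coherent quotients of a countably generated module
-/

set_option autoImplicit false
set_option linter.style.haveILetI false
set_option backward.isDefEq.respectTransparency.types false

noncomputable section

universe u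

open CategoryTheory CategoryTheory.Limits AlgebraicGeometry TopologicalSpace Opposite
open scoped Pointwise

namespace Groth.Agent.H10Coh.LimStab

theorem exists_countable_span (k R : Type u) [Field k] [CommRing R] [Algebra k R] [Algebra.FiniteType k R] :
    ∃ s : Set R, s.Countable ∧ Submodule.span k s = ⊤ := by
  obtain ⟨n, φ, hφ⟩ := Algebra.FiniteType.iff_quotient_mvPolynomial''.1 (inferInstance : Algebra.FiniteType k R)
  refine ⟨φ.toLinearMap '' Set.range (MvPolynomial.basisMonomials (Fin n) k), (Set.countable_range _).image _, ?_⟩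
  rw [Submodule.span_image, (MvPolynomial.basisMonomials (Fin n) k).span_eq, Submodule.map_top,
    LinearMap.range_eq_top]
  exact hφ

theorem exists_countable_span_of_tower {k R G : Type u} [Field k] [CommRing R] [Algebra k R] [AddCommGroup G]
    [Module R G] [Module k G] [IsScalarTower k R G] {sR : Set R} (hsR : sR.Countable)
    (hR : Submodule.span k sR = ⊤) {t : Set G} (ht : t.Countable) (hG : Submodule.span R t = ⊤) :
    ∃ s : Set G, s.Countable ∧ Submodule.span k s = ⊤ := by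
  refine ⟨sR • t, hsR.image2 ht _, ?_⟩
  rw [Submodule.span_smul_of_span_eq_top hR, hG, Submodule.restrictScalars_top]

variable {X : Scheme.{u}} (Q : ℕᵒᵖ ⥤ X.Modules) (c : Cone Q) (U : X.Opens)

/-- The projection on sections. -/
def proj (n : ℕ) : Γ(c.pt, U) →ₗ[Γ(X, U)] Γ(Q.obj (op n), U) where
  toFun s := (c.π.app (op n)).app U s
  map_add' := map_add _
  map_smul' r s := (c.π.app (op n)).app_smul r s

theorem tr_proj {a b : ℕ} (h : a ≤ b) (s : Γ(c.pt, U)) :
    (Q.map (homOfLE h).op).app U (proj Q c U b s) = proj Q c U a s :=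
  congr(($(c.w (homOfLE h).op)).app U s)

theorem ker_succ_le (n : ℕ) : LinearMap.ker (proj Q c U (n + 1)) ≤ LinearMap.ker (proj Q c U n) := fun s hs => by
  rw [LinearMap.mem_ker] at hs ⊢
  rw [← tr_proj Q c U (Nat.le_succ n), hs, map_zero]

/-- A compatible family of sections. -/
theorem exists_limit_section (s : ∀ n : ℕ, Γ(Q.obj (op n), U))
    (hs : ∀ n : ℕ, (Q.map (homOfLE (Nat.le_succ n)).op).app U (s (n + 1)) = s n) :
    ∃ a : Γ(limit Q, U), ∀ n : ℕ, (limit.π Q (op n)).app U a = s n := by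
  have hall : ∀ (a b : ℕ) (h : a ≤ b), (Q.map (homOfLE h).op).app U (s b) = s a := by
    intro a b h
    induction b, h using Nat.le_induction with
    | base =>
      have e : Q.map (homOfLE (le_refl a)).op = 𝟙 (Q.obj (op a)) := Q.map_id _
      exact congr(($e).app U (s a))
    | succ b h ih =>
      have e : Q.map (homOfLE (Nat.le_succ b)).op ≫ Q.map (homOfLE h).op =
          Q.map (homOfLE (h.trans (Nat.le_succ b))).op := by
        rw [← Q.map_comp]; rfl
      refine (congr(($e).app U (s (b + 1)))).symm.trans ?_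
      exact (congrArg _ (hs b)).trans ih
  let F := Scheme.Modules.toPresheaf X ⋙ (evaluation (X.Opens)ᵒᵖ AddCommGrpCat.{u}).obj (op U) ⋙
    CategoryTheory.forget AddCommGrpCat.{u}
  let σ : (Q ⋙ F).sections := ⟨fun i => s i.unop, fun {i j} φ => by
    have e2 : φ = (homOfLE φ.unop.le).op := Quiver.Hom.unop_inj (Subsingleton.elim _ _)
    refine Eq.trans ?_ (hall j.unop i.unop φ.unop.le)
    exact congrArg (fun ψ => (Q.map ψ).app U (s i.unop)) e2⟩
  haveI : PreservesLimitsOfSize.{0, 0} (Scheme.Modules.toPresheaf X) := preservesLimitsOfSize_shrink _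
  haveI : PreservesLimitsOfSize.{0, 0} ((evaluation (X.Opens)ᵒᵖ AddCommGrpCat.{u}).obj (op U)) :=
    preservesLimitsOfSize_shrink _
  haveI : PreservesLimitsOfSize.{0, 0} (CategoryTheory.forget AddCommGrpCat.{u}) :=
    preservesLimitsOfSize_shrink _
  haveI : PreservesLimit Q F := inferInstance
  let hl := isLimitOfPreserves F (limit.isLimit Q)
  exact ⟨(Types.isLimitEquivSections hl).symm σ, fun n =>
    congrArg (fun w => w.1 (op n)) ((Types.isLimitEquivSections hl).apply_symm_apply σ)⟩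

theorem ker_eventually_const (k : Type u) [Field k] [X.Over (Spec (CommRingCat.of k))]
    [LocallyOfFiniteType (X ↘ Spec (CommRingCat.of k))]
    (hQ : ∀ n : ℕ, Coh.IsQCoh (Q.obj (op n))) (hG : Coh.IsQCoh c.pt) (hU : IsAffineOpen U)
    (hGc : ∃ s : Set Γ(c.pt, U), s.Countable ∧ Submodule.span Γ(X, U) s = ⊤)
    (hlim : Epi (limit.lift Q c)) :
    ∃ N, ∀ n, N ≤ n → LinearMap.ker (proj Q c U n) ≤ LinearMap.ker (proj Q c U (n + 1)) := by
  classical
  haveI : c.pt.IsQuasicoherent := hG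
  let φ : k →+* Γ(X, U) := ((X ↘ Spec (CommRingCat.of k)).appLE ⊤ U (by simp)).hom.comp
    (Scheme.ΓSpecIso (CommRingCat.of k)).inv.hom
  have hφ : φ.FiniteType :=
    ((X ↘ Spec (CommRingCat.of k)).finiteType_appLE (isAffineOpen_top _) hU _).comp
      (RingHom.FiniteType.of_surjective _ (Scheme.ΓSpecIso (CommRingCat.of k)).commRingCatIsoToRingEquiv.symm.surjective)
  algebraize [φ]
  letI : Module k Γ(c.pt, U) := Module.compHom _ (algebraMap k Γ(X, U))
  haveI : IsScalarTower k Γ(X, U) Γ(c.pt, U) := ⟨fun a r x => by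
    rw [Algebra.smul_def, mul_smul]; rfl⟩
  obtain ⟨sR, hsR, hR⟩ := exists_countable_span k Γ(X, U)
  obtain ⟨t, ht, htG⟩ := hGc
  obtain ⟨sG, hsG, hGs⟩ := exists_countable_span_of_tower hsR hR ht htG
  let H n := LinearMap.ker (proj Q c U n)
  by_contra! hcon
  have hinf : {n | ¬ H n ≤ H (n + 1)}.Infinite :=
    Set.infinite_of_forall_exists_gt fun N => by
      obtain ⟨n, hn, h⟩ := hcon (N + 1)
      exact ⟨n, h, hn⟩
  have hc : ∀ n, ∃ x ∈ H n, ¬ H n ≤ H (n + 1) → x ∉ H (n + 1) := fun n => by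
    by_cases h : H n ≤ H (n + 1)
    · exact ⟨0, zero_mem _, fun h' => absurd h h'⟩
    · obtain ⟨x, hx, hx'⟩ := SetLike.not_le_iff_exists.1 h
      exact ⟨x, hx, fun _ => hx'⟩
  choose cc hccmem hcc using hc
  obtain ⟨l, hl⟩ := exists_bad sR hsR hR sG hsG hGs H cc
  obtain ⟨a, ha⟩ := exists_limit_section Q U (fun n => proj Q c U n (psum cc l n)) fun n => by
    rw [tr_proj, psum_succ, map_add, add_eq_left, ← algebraMap_smul Γ(X, U) (l n) (cc n), map_smul,
      LinearMap.mem_ker.1 (hccmem n), smul_zero]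
  -- the section comes locally from `c.pt`
  have hloc : ∀ x : U, ∃ f : Γ(X, U), x.1 ∈ X.basicOpen f ∧ ∃ g : Γ(c.pt, X.basicOpen f),
      (limit.lift Q c).app (X.basicOpen f) g = (limit Q).presheaf.map (homOfLE (X.basicOpen_le f)).op a := by
    intro x
    obtain ⟨V, hV, hxV, g, hg⟩ := exists_nhds_lift_of_epi (limit.lift Q c) U a x.1 x.2
    obtain ⟨f, hf, hxf⟩ := hU.exists_basicOpen_le ⟨x.1, hxV⟩ x.2
    refine ⟨f, hxf, c.pt.presheaf.map (homOfLE hf).op g, ?_⟩
    rw [H11Tilde.app_map_apply, hg]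
    exact mres_mres (limit Q) hV hf a
  choose f hxf g hg using hloc
  have hcov : Ideal.span (Set.range f) = ⊤ := by
    rw [← hU.self_le_iSup_basicOpen_iff]
    intro x hx
    exact Opens.mem_iSup.2 ⟨⟨f ⟨x, hx⟩, Set.mem_range_self _⟩, hxf ⟨x, hx⟩⟩
  obtain ⟨T, hT, h1T⟩ := Submodule.mem_span_finite_of_mem_span (hcov ▸ Submodule.mem_top : (1 : Γ(X, U)) ∈ Ideal.span (Set.range f))
  have hspan : Ideal.span (T : Set Γ(X, U)) = ⊤ := (Ideal.eq_top_iff_one _).2 h1T
  -- one open meets infinitely many jumps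
  have hex : ∀ n ∈ {n | ¬ H n ≤ H (n + 1)}, ∃ r ∈ T, n ∈ Spots H cc r := by
    intro n hn
    by_contra! hr
    have h' : ∀ r ∈ T, ∃ M : ℕ, r ^ M • cc n ∈ H (n + 1) := fun r hrT => not_forall_not.1 (hr r hrT)
    choose! M hM using h'
    have htop := Ideal.span_pow_eq_top (T : Set Γ(X, U)) hspan (T.sup M)
    have h1 : (1 : Γ(X, U)) ∈ (H (n + 1)).comap (LinearMap.toSpanSingleton _ _ (cc n)) := by
      have hle : Ideal.span ((fun r => r ^ T.sup M) '' (T : Set Γ(X, U))) ≤
          (H (n + 1)).comap (LinearMap.toSpanSingleton _ _ (cc n)) := by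
        rw [Ideal.span_le]
        rintro _ ⟨r, hr', rfl⟩
        show r ^ T.sup M • cc n ∈ H (n + 1)
        rw [← Nat.sub_add_cancel (Finset.le_sup (f := M) hr'), pow_add, mul_smul]
        exact (H (n + 1)).smul_mem _ (hM r hr')
      exact hle (htop ▸ Submodule.mem_top)
    refine hcc n hn ?_
    simpa using h1
  obtain ⟨r, hrT, hrinf⟩ : ∃ r ∈ T, (Spots H cc r).Infinite := by
    by_contra! hfin
    refine hinf ((Set.Finite.biUnion T.finite_toSet (fun r hr => hfin r hr)).subset fun n hn => ?_)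
    obtain ⟨r, hr, hnr⟩ := hex n hn
    exact Set.mem_biUnion hr hnr
  obtain ⟨x, rfl⟩ := hT hrT
  obtain ⟨m, g₀, hg₀⟩ := exists_pow_smul_eq_res c.pt hU (f x) (g x)
  obtain ⟨n, hn⟩ := hl (f x) g₀ m hrinf
  haveI : (Q.obj (op (n + 1))).IsQuasicoherent := hQ _
  have hz : (Q.obj (op (n + 1))).presheaf.map (homOfLE (X.basicOpen_le (f x))).op
      (proj Q c U (n + 1) (f x ^ m • psum cc l (n + 1) - g₀)) = 0 := by
    have e1 : (Q.obj (op (n + 1))).presheaf.map (homOfLE (X.basicOpen_le (f x))).op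
        (proj Q c U (n + 1) (psum cc l (n + 1))) =
          (c.π.app (op (n + 1))).app (X.basicOpen (f x)) (g x) := by
      rw [← ha (n + 1), ← H11Tilde.app_map_apply, ← hg x]
      exact congr(($(limit.lift_π c (op (n + 1)))).app (X.basicOpen (f x)) (g x))
    rw [map_sub, map_sub, map_smul, Scheme.Modules.map_smul, e1, sub_eq_zero]
    show _ = (Q.obj (op (n + 1))).presheaf.map _ ((c.π.app (op (n + 1))).app U g₀)
    rw [← H11Tilde.app_map_apply]
    exact ((congrArg ((c.π.app (op (n + 1))).app (X.basicOpen (f x))) hg₀).trans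
      ((c.π.app (op (n + 1))).app_smul _ _)).symm
  obtain ⟨M, hM⟩ := exists_pow_smul_eq_zero_of_isCompact _ hU.isCompact (f x) _ hz
  refine hn M (LinearMap.mem_ker.2 ?_)
  rw [map_smul, hM]

theorem eventually_isIso (k : Type u) [Field k] [X.Over (Spec (CommRingCat.of k))]
    [LocallyOfFiniteType (X ↘ Spec (CommRingCat.of k))] [CompactSpace X]
    (hQ : ∀ n : ℕ, Coh.IsQCoh (Q.obj (op n))) (hG : Coh.IsQCoh c.pt)
    (hGc : ∀ U : X.affineOpens, ∃ s : Set Γ(c.pt, (U : X.Opens)),
      s.Countable ∧ Submodule.span Γ(X, (U : X.Opens)) s = ⊤)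
    (hepi : ∀ n : ℕ, Epi (c.π.app (op n))) (hlim : Epi (limit.lift Q c)) :
    ∃ N : ℕ, ∀ n : ℕ, N ≤ n → IsIso (Q.map (homOfLE (Nat.le_succ n)).op) := by
  obtain ⟨q, U, hU, -, hcov⟩ := exists_finite_affine_cover (W := (⊤ : X.Opens)) isCompact_univ
  choose N hN using fun j => ker_eventually_const Q c (U j) k hQ hG (hU j) (hGc ⟨U j, hU j⟩) hlim
  refine ⟨Finset.univ.sup N, fun n hn => ?_⟩
  haveI : c.pt.IsQuasicoherent := hG
  haveI : (((Functor.const ℕᵒᵖ).obj c.pt).obj (op (n + 1))).IsQuasicoherent := hG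
  haveI : (Q.obj (op n)).IsQuasicoherent := hQ n
  haveI : (Q.obj (op (n + 1))).IsQuasicoherent := hQ _
  haveI := hepi n
  haveI := hepi (n + 1)
  haveI : Epi (Q.map (homOfLE (Nat.le_succ n)).op) := by
    haveI : Epi (c.π.app (op (n + 1)) ≫ Q.map (homOfLE (Nat.le_succ n)).op) := by
      rw [c.w]; infer_instance
    exact epi_of_epi (c.π.app (op (n + 1))) _
  haveI : Mono (Q.map (homOfLE (Nat.le_succ n)).op) := H11Tilde.mono_of_injective _ fun W s hs x hx => by
    obtain ⟨j, hj⟩ := Opens.mem_iSup.1 (hcov (trivial : x ∈ (⊤ : X.Opens)))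
    obtain ⟨D, ⟨⟨D', hD', rfl⟩, hxD⟩⟩ : ∃ D : X.Opens, (∃ f : Γ(X, U j), X.basicOpen f ≤ W ∧ D = X.basicOpen f) ∧
        x ∈ D := by
      obtain ⟨f, hf, hxf⟩ := (hU j).exists_basicOpen_le ⟨x, hx⟩ hj
      exact ⟨_, ⟨f, hf, rfl⟩, hxf⟩
    refine ⟨X.basicOpen D', hD', hxD, ?_⟩
    let s' := (Q.obj (op (n + 1))).presheaf.map (homOfLE hD').op s
    have hs' : (Q.map (homOfLE (Nat.le_succ n)).op).app (X.basicOpen D') s' = 0 := by
      rw [H11Tilde.app_map_apply, hs, map_zero]
    obtain ⟨m, s₀, hs₀⟩ := exists_pow_smul_eq_res (Q.obj (op (n + 1))) (hU j) D' s'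
    have h0 : (Q.obj (op n)).presheaf.map (homOfLE (X.basicOpen_le D')).op
        ((Q.map (homOfLE (Nat.le_succ n)).op).app (U j) s₀) = 0 := by
      rw [← H11Tilde.app_map_apply, hs₀, Scheme.Modules.Hom.app_smul, hs', smul_zero]
    obtain ⟨m', hm'⟩ := exists_pow_smul_eq_zero_of_isCompact _ (hU j).isCompact D' _ h0
    obtain ⟨v, hv⟩ := surjective_app_of_epi (c.π.app (op (n + 1))) (hU j) (D' ^ m' • s₀)
    have hv0 : proj Q c (U j) n v = 0 := by
      rw [← tr_proj Q c (U j) (Nat.le_succ n)]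
      refine (congrArg _ hv).trans ?_
      rw [Scheme.Modules.Hom.app_smul, hm']
    have hv1 : proj Q c (U j) (n + 1) v = 0 :=
      hN j n (le_trans (Finset.le_sup (f := N) (Finset.mem_univ j)) hn) hv0
    have hs0' : (D' ^ m' • s₀ : Γ(Q.obj (op (n + 1)), U j)) = 0 := hv.symm.trans hv1
    have h2 := congrArg ((Q.obj (op (n + 1))).presheaf.map (homOfLE (X.basicOpen_le D')).op) hs0'
    rw [Scheme.Modules.map_smul, map_zero, hs₀, smul_smul, ← map_mul, ← pow_add, map_pow] at h2
    have hu : IsUnit (X.presheaf.map (homOfLE (X.basicOpen_le D')).op D') :=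
      X.toRingedSpace.isUnit_res_basicOpen D'
    exact ((hu.pow (m' + m)).smul_eq_zero).1 h2
  exact isIso_of_mono_of_epi _

end Groth.Agent.H10Coh.LimStab
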