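import Groth.Agent.H10Coh.LimStab.Quot
import Groth.Agent.H10Coh.LimStab.ML2
import Groth.Agent.H16Derived.KFlat.FlatIff

/-!
# Flat modules and limits of countably generated towers
-/

set_option autoImplicit false
set_option linter.style.haveILetI false
set_option backward.isDefEq.respectTransparency.types false

noncomputable section

universe u

open CategoryTheory CategoryTheory.Limits AlgebraicGeometry TopologicalSpace Opposite
open Groth.Agent.S14354

namespace Groth.Agent.H10Coh.LimStab

variable {X : Scheme.{u}}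

theorem mono_tensorModMap {E : X.Modules} (hE : FlatMod.IsFlat E) {A B : X.Modules} (f : A ⟶ B) [Mono f] :
    Mono (LimSh.tensorModMap f E) := by
  have hS : (ShortComplex.mk f (cokernel.π f) (cokernel.condition f)).ShortExact :=
    { exact := ShortComplex.exact_of_g_is_cokernel _ (cokernelIsCokernel f) }
  exact ((H16Derived.KFlat.Stalk.isFlat_iff_isFlatObj E).1 hE _ hS).mono_f

variable (F : ℕᵒᵖ ⥤ X.Modules) (k : Type u) [Field k] [X.Over (Spec (CommRingCat.of k))]
  [LocallyOfFiniteType (X ↘ Spec (CommRingCat.of k))] [CompactSpace X]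

include k in
/-- The limit injects into late stages. -/
theorem exists_mono_π (hF : ∀ n : ℕ, Coh.IsQCoh (F.obj (op n))) (hL : Coh.IsQCoh (limit F))
    (hLc : ∀ U : X.affineOpens, ∃ s : Set Γ(limit F, (U : X.Opens)),
      s.Countable ∧ Submodule.span Γ(X, (U : X.Opens)) s = ⊤) :
    ∃ N, ∀ n, N ≤ n → Mono (limit.π F (op n)) := by
  let φ := 𝟙 (limit F)
  let Q := imgTower F φ
  let c := imgCone F φ
  have hQ : ∀ n : ℕ, Coh.IsQCoh (Q.obj (op n)) := fun n => isQCoh_abelianImage _ hL (hF n)
  have hfac : limit.lift Q c ≫ limMap (imgIncl F φ) = φ := by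
    refine limit.hom_ext fun i => ?_
    rw [Category.assoc, limMap_π, limit.lift_π_assoc]
    exact Abelian.image.fac (comp' F φ i.unop)
  haveI : ∀ i, Mono ((imgIncl F φ).app i) := fun i => inferInstanceAs (Mono (Abelian.image.ι _))
  haveI : Mono (limMap (imgIncl F φ)) := Limits.limMap_mono _
  haveI : Epi (limit.lift Q c ≫ limMap (imgIncl F φ)) := by rw [hfac]; exact (inferInstance : Epi (𝟙 (limit F)))
  haveI : Epi (limMap (imgIncl F φ)) := epi_of_epi (limit.lift Q c) _
  haveI : IsIso (limMap (imgIncl F φ)) := isIso_of_mono_of_epi _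
  have hl : IsIso (limit.lift Q c) := by
    rw [show limit.lift Q c = φ ≫ inv (limMap (imgIncl F φ)) from (IsIso.eq_comp_inv _).2 hfac]
    exact IsIso.comp_isIso' (inferInstance : IsIso (𝟙 (limit F))) inferInstance
  have hepi : ∀ n : ℕ, Epi (c.π.app (op n)) := fun n => inferInstanceAs (Epi (Abelian.factorThruImage _))
  obtain ⟨N, hN⟩ := eventually_isIso Q c k hQ hL hLc hepi (by haveI := hl; exact inferInstance)
  refine ⟨N, fun n hn => ?_⟩
  have hev : Q.IsEventuallyConstantTo (op n) := fun j f => by
    have hj : n ≤ j.unop := f.unop.le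
    have e : f = (homOfLE hj).op := Quiver.Hom.unop_inj (Subsingleton.elim _ _)
    rw [e]
    have key : ∀ (a : ℕ) (h : n ≤ a), IsIso (Q.map (homOfLE h).op) := by
      intro a h
      induction a, h using Nat.le_induction with
      | base => rw [show (homOfLE (le_refl n)).op = 𝟙 (op n) from rfl, Q.map_id]; infer_instance
      | succ b h ih =>
        haveI := hN b (hn.trans h)
        rw [show (homOfLE (h.trans (Nat.le_succ b))).op = (homOfLE (Nat.le_succ b)).op ≫ (homOfLE h).op from rfl,
          Q.map_comp]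
        infer_instance
    exact key j.unop hj
  haveI : IsIso (limit.π Q (op n)) := hev.isIso_π_of_isLimit (limit.isLimit Q)
  have e : limit.π F (op n) = inv (limMap (imgIncl F φ)) ≫ limit.π Q (op n) ≫ (imgIncl F φ).app (op n) := by
    rw [IsIso.eq_inv_comp, limMap_π]
  rw [e]
  exact mono_comp _ _

/-- For a Mittag-Leffler tower the limit surjects to the stable image. -/
theorem exists_retraction (hF : ∀ n : ℕ, Coh.IsQCoh (F.obj (op n)))
    (hML : ∀ n : ℕ, ∃ (m : ℕ) (hm : n ≤ m), ∀ (m' : ℕ) (hm' : m ≤ m'),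
      imageSubobject (F.map (homOfLE (hm.trans hm')).op) = imageSubobject (F.map (homOfLE hm).op))
    (n : ℕ) [Mono (limit.π F (op n))] :
    ∃ (m : ℕ) (hm : n ≤ m) (r : F.obj (op m) ⟶ limit F),
      r ≫ limit.π F (op n) = F.map (homOfLE hm).op := by
  obtain ⟨D, hD, hDe⟩ := hML n
  let φ := F.map (homOfLE hD).op
  let J : X.Modules := (imageSubobject φ : X.Modules)
  haveI : J.IsQuasicoherent := isQCoh_imageSubobject φ (hF _) (hF _)
  let u : limit F ⟶ J := limit.π F (op D) ≫ factorThruImageSubobject φ
  have hu : u ≫ (imageSubobject φ).arrow = limit.π F (op n) := by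
    simp [u, φ, J]
  haveI : Mono u := by
    haveI : Mono (u ≫ (imageSubobject φ).arrow) := by rw [hu]; infer_instance
    exact mono_of_mono u (imageSubobject φ).arrow
  haveI : Epi u := by
    refine H11Tilde.epi_of_locally_surjective u fun W t x hx => ?_
    obtain ⟨V, hV, hxV, hVW⟩ := exists_isAffineOpen_mem_and_subset (U := W) (x := x) hx
    refine ⟨V, hVW, hxV, ?_⟩
    haveI : (F.obj (op D)).IsQuasicoherent := hF _
    obtain ⟨a, ha⟩ := surjective_app_of_epi (factorThruImageSubobject φ) hV
      (J.presheaf.map (homOfLE hVW).op t)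
    have hst := stabilizes_of_ml F hF hML hV
    have hs : Stable F V n (tr F V hD a) := fun d hd => by
      rcases le_total D d with h1 | h1
      · exact exists_of_imageSubobject_eq _ _ (hF _) (hF _) (hF _) (hDe d h1).symm hV a
      · exact ⟨tr F V h1 a, tr_tr F V hd h1 a⟩
    obtain ⟨s, hs'⟩ := exists_limit_preimage F V hst n _ hs
    refine ⟨s, injective_app_of_mono' (imageSubobject φ).arrow V ?_⟩
    refine Eq.trans ?_ (congrArg _ ha)
    refine Eq.trans ?_ ((congr(($(imageSubobject_arrow_comp φ)).app V a)).trans rfl).symm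
    exact (congr(($hu).app V s)).trans hs'
  haveI : IsIso u := isIso_of_mono_of_epi u
  refine ⟨D, hD, factorThruImageSubobject φ ≫ inv u, ?_⟩
  rw [Category.assoc, ← hu, IsIso.inv_hom_id_assoc, imageSubobject_arrow_comp]

variable {k}

theorem isIso_post (E : X.Modules) (N : ℕ)
    (hmono : ∀ n, N ≤ n → Mono (limit.π F (op n)))
    (hr : ∀ n, N ≤ n → ∃ (m : ℕ) (hm : n ≤ m) (r : F.obj (op m) ⟶ limit F),
      r ≫ limit.π F (op n) = F.map (homOfLE hm).op) :
    IsIso (limit.post F (LimSh.tensorRight E)) := by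
  obtain ⟨m, hm, r, hrN⟩ := hr N le_rfl
  haveI := hmono N le_rfl
  let T := LimSh.tensorRight E
  let G := F ⋙ T
  let β : limit G ⟶ T.obj (limit F) := limit.π G (op m) ≫ T.map r
  refine ⟨⟨β, ?_, ?_⟩⟩
  · show limit.post F T ≫ β = _
    rw [limit.post_π_assoc, ← T.map_comp]
    have h1 : limit.π F (op m) ≫ r = 𝟙 _ := by
      rw [← cancel_mono (limit.π F (op N)), Category.assoc, hrN, limit.w, Category.id_comp]
    rw [h1, T.map_id]
  · have hge : ∀ n, N ≤ n → β ≫ T.map (limit.π F (op n)) = limit.π G (op n) := by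
      intro n hn
      obtain ⟨m', hm', r', hr'⟩ := hr n hn
      let M := max m m'
      have e : F.map (homOfLE (le_max_left m m')).op ≫ r = F.map (homOfLE (le_max_right m m')).op ≫ r' := by
        rw [← cancel_mono (limit.π F (op N)), Category.assoc, Category.assoc, hrN,
          ← limit.w F (homOfLE hn).op, reassoc_of% hr', ← F.map_comp, ← F.map_comp, ← F.map_comp]
        rfl
      show (limit.π G (op m) ≫ T.map r) ≫ T.map (limit.π F (op n)) = _
      rw [← limit.w G (homOfLE (le_max_left m m')).op, Category.assoc, Category.assoc]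
      show limit.π G (op (max m m')) ≫ T.map (F.map (homOfLE (le_max_left m m')).op) ≫ T.map r ≫ _ = _
      rw [← T.map_comp, ← T.map_comp, reassoc_of% e, hr', ← F.map_comp]
      exact limit.w G ((homOfLE (le_max_right m m')).op ≫ (homOfLE hm').op)
    refine limit.hom_ext fun i => ?_
    obtain ⟨n, rfl⟩ : ∃ n, i = op n := ⟨i.unop, rfl⟩
    show (β ≫ limit.post F T) ≫ limit.π G (op n) = _
    rw [Category.assoc, limit.post_π, Category.id_comp, ← limit.w F (homOfLE (le_max_left n N)).op, T.map_comp,
      ← Category.assoc, hge _ (le_max_right n N)]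
    exact limit.w G (homOfLE (le_max_left n N)).op

theorem mono_post {E : X.Modules} (hE : FlatMod.IsFlat E) (N : ℕ) [Mono (limit.π F (op N))] :
    Mono (limit.post F (LimSh.tensorRight E)) := by
  haveI : Mono ((LimSh.tensorRight E).map (limit.π F (op N))) := mono_tensorModMap hE _
  haveI : Mono (limit.post F (LimSh.tensorRight E) ≫ limit.π (F ⋙ LimSh.tensorRight E) (op N)) := by
    rw [limit.post_π]; infer_instance
  exact mono_of_mono _ (limit.π (F ⋙ LimSh.tensorRight E) (op N))

end Groth.Agent.H10Coh.LimStab
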